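import Groth.Agent.Lib.FibProper8.Fibre
import Groth.Agent.Lib.FibLocal8.Criterion
import Groth.Agent.Lib.KInj.Derived
import Mathlib.Algebra.Homology.DerivedCategory.DerivabilityStructureInjectives

/-!
# The adjunct of a resolution is a quasi-isomorphism at a point whose fibre is of descent
-/

set_option autoImplicit false
set_option backward.isDefEq.respectTransparency false
set_option backward.isDefEq.respectTransparency.types false
set_option maxHeartbeats 1000000

universe u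

open CategoryTheory CategoryTheory.Limits Opposite TopologicalSpace Pseudofunctor.CoGrothendieck FibDesc
open SimplexCategory
open scoped Simplicial
open Groth.Agent.FibSplit8 Groth.Agent.FibLocal8 Groth.Agent.SheafVan16 Groth.Agent.CohFound Groth.Agent.GodTot16

noncomputable section

namespace Groth.Agent.FibProper8

variable {Y' Y : (WithInitial SimplexCategory)ᵒᵖ ⥤ TopCat.{u}} {Φ : Y' ⟶ Y}

local notation "DS" => SimplexCategory
local notation "cS" => ComplexShape.up ℤ
local notation "PL" Z:max => pull (topAug Z) (topAugTop Z) AddCommGrpCat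
local notation "PS" Z:max => push (topAug Z) (topAugTop Z) AddCommGrpCat

instance additive_pull' (Z : (WithInitial DS)ᵒᵖ ⥤ TopCat.{u}) :
    (pull (topAug Z) (topAugTop Z) AddCommGrpCat.{u}).Additive :=
  haveI := (FibDesc.adj (topAug Z) (topAugTop Z) AddCommGrpCat.{u}).leftAdjoint_preservesColimits.{0, 0}
  haveI := preservesBinaryBiproducts_of_preservesBinaryCoproducts (pull (topAug Z) (topAugTop Z) AddCommGrpCat.{u})
  Functor.additive_of_preservesBinaryBiproducts _

instance additive_kL {D : Type} [Category.{0} D] {Z' Z : (WithInitial D)ᵒᵖ ⥤ TopCat.{u}} (Ψ : Z' ⟶ Z) (i : (WithInitial D)ᵒᵖ) :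
    (kL Ψ i).Additive := CohTop16.additive_pull _

instance exact_kL {D : Type} [Category.{0} D] {Z' Z : (WithInitial D)ᵒᵖ ⥤ TopCat.{u}} (Ψ : Z' ⟶ Z) (i : (WithInitial D)ᵒᵖ) :
    PreservesFiniteLimits (kL Ψ i) := CohTop16.preservesFiniteLimits_pull _

instance exact_kL' {D : Type} [Category.{0} D] {Z' Z : (WithInitial D)ᵒᵖ ⥤ TopCat.{u}} (Ψ : Z' ⟶ Z) (i : (WithInitial D)ᵒᵖ) :
    PreservesFiniteColimits (kL Ψ i) := CohTop16.preservesFiniteColimits_pull _

instance additive_kP {D : Type} [Category.{0} D] {Z' Z : (WithInitial D)ᵒᵖ ⥤ TopCat.{u}} (Ψ : Z' ⟶ Z) (i : (WithInitial D)ᵒᵖ) :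
    (kP Ψ i).Additive where

/-- The identification of the levels of an inverse image. -/
def idR (Z : (WithInitial DS)ᵒᵖ ⥤ TopCat.{u}) (n : ℕ) : inclR Z ⋙ rsP Z n ≅ rs Z (idx ⦋n⦌) :=
  NatIso.ofComponents (fun M => (fullyFaithfulSheafToPresheaf _ _).preimageIso
    (NatIso.ofComponents (fun U => Iso.refl _) fun g => by
      change M.obj.map _ ≫ 𝟙 _ = 𝟙 _ ≫ M.obj.map _
      rw [Category.comp_id, Category.id_comp]
      exact congrArg M.obj.map (Quiver.Hom.unop_inj (hom_ext Z rfl))))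
    fun φ => by
      apply Sheaf.hom_ext
      ext U : 2
      change _ ≫ 𝟙 _ = 𝟙 _ ≫ _
      rw [Category.comp_id, Category.id_comp]
      rfl

instance exact_rsP (Z : (WithInitial DS)ᵒᵖ ⥤ TopCat.{u}) (n : ℕ) : PreservesFiniteColimits (rsP Z n) :=
  haveI : (ι (part (topAug Z)) (op ⦋n⦌)).IsCocontinuous (partTop (topAug Z) (topAugTop Z) (op ⦋n⦌))
      (totPart (topAug Z) (topAugTop Z)) := FC16.FibTotal.ι_isCocontinuous (isPreFibSite_part Z) _
  haveI : (ι (part (topAug Z)) (op ⦋n⦌)).IsContinuous (partTop (topAug Z) (topAugTop Z) (op ⦋n⦌))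
      (totPart (topAug Z) (topAugTop Z)) := FC16.FibTotal.ι_isContinuous (isPreFibSite_part Z) _
  haveI := ((ι (part (topAug Z)) (op ⦋n⦌)).sheafAdjunctionCocontinuous AddCommGrpCat.{u}
    (partTop (topAug Z) (topAugTop Z) (op ⦋n⦌)) (totPart (topAug Z) (topAugTop Z))).leftAdjoint_preservesColimits.{0, 0}
  inferInstance

instance exact_rsP' (Z : (WithInitial DS)ᵒᵖ ⥤ TopCat.{u}) (n : ℕ) : PreservesFiniteLimits (rsP Z n) :=
  haveI : (ι (part (topAug Z)) (op ⦋n⦌)).IsContinuous (partTop (topAug Z) (topAugTop Z) (op ⦋n⦌))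
      (totPart (topAug Z) (topAugTop Z)) := FC16.FibTotal.ι_isContinuous (isPreFibSite_part Z) _
  haveI := ((ι (part (topAug Z)) (op ⦋n⦌)).sheafAdjunctionContinuous AddCommGrpCat.{u}
    (partTop (topAug Z) (topAugTop Z) (op ⦋n⦌)) (totPart (topAug Z) (topAugTop Z))).rightAdjoint_preservesLimits.{0, 0}
  inferInstance

theorem lift'_comp (n : ℕ) {M₁ M : PSh Y} {M' : PSh Y'} (f : M₁ ⟶ M) (θ : M ⟶ (PΦ Φ).obj M') :
    lift' n (f ≫ θ) = (CohTop.pull (Φ.app (idx ⦋n⦌))).map ((rsP Y n).map f) ≫ lift' n θ := by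
  rw [lift', lift', ← Adjunction.homEquiv_naturality_left_symm, Functor.map_comp, Category.assoc]

theorem lift'_map (n : ℕ) {M : PSh Y} {M' M'' : PSh Y'} (θ : M ⟶ (PΦ Φ).obj M') (g : M' ⟶ M'') :
    lift' n (θ ≫ (PΦ Φ).map g) = lift' n θ ≫ (rsP Y' n).map g := by
  rw [lift', lift', ← Adjunction.homEquiv_naturality_right_symm, Functor.map_comp, Category.assoc, Category.assoc]
  exact congrArg _ (congrArg (_ ≫ ·) ((cmpN n).inv.naturality g))

instance isIso_lift'_xiP (n : ℕ) (G : Sheaf (topAugTop Y (bot DS)) AddCommGrpCat.{u}) :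
    IsIso (lift' n (xiP Φ G)) := by
  have e : lift' n (xiP Φ G) = (CohTop.pull (Φ.app (idx ⦋n⦌))).map ((idR Y n).hom.app _) ≫
      xiL Φ (idx ⦋n⦌) G ≫ (idR Y' n).inv.app _ := by
    apply ((TopCat.Sheaf.pullbackPushforwardAdjunction AddCommGrpCat.{u} (Φ.app (idx ⦋n⦌))).homEquiv _ _).injective
    rw [lift', Equiv.apply_symm_apply, Adjunction.homEquiv_naturality_left, Adjunction.homEquiv_naturality_right,
      xiL, Equiv.apply_symm_apply]
    apply Sheaf.hom_ext
    ext U : 2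
    change ((xiT Φ G).hom.app _ ≫ 𝟙 _) ≫ 𝟙 _ = 𝟙 _ ≫ ((xiT Φ G).hom.app _ ≫ 𝟙 _) ≫ 𝟙 _
    simp only [Category.id_comp, Category.comp_id]
  rw [e]
  exact IsIso.comp_isIso' inferInstance (IsIso.comp_isIso' (isIso_xiL Φ _ G) inferInstance)

section Complexes

variable (Φ) in
/-- The comparison of inverse images, on complexes. -/
def xiC (L : CochainComplex (Sheaf (topAugTop Y (bot DS)) AddCommGrpCat.{u}) ℤ) :
    ((pull (topAug Y) (topAugTop Y) AddCommGrpCat.{u}).mapHomologicalComplex cS).obj L ⟶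
      ((PΦ Φ).mapHomologicalComplex cS).obj (((pull (topAug Y') (topAugTop Y') AddCommGrpCat.{u}).mapHomologicalComplex cS).obj
        (((kL Φ (bot DS)).mapHomologicalComplex cS).obj L)) where
  f p := xiP Φ (L.X p)
  comm' i j _ := (xiP_naturality Φ (L.d i j)).symm

/-- The levels of a map to a direct image. -/
def liftC (n : ℕ) {K : CochainComplex (PSh Y) ℤ} {K' : CochainComplex (PSh Y') ℤ}
    (θ : K ⟶ ((PΦ Φ).mapHomologicalComplex cS).obj K') :
    ((kL Φ (idx ⦋n⦌)).mapHomologicalComplex cS).obj (((rsP Y n).mapHomologicalComplex cS).obj K) ⟶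
      ((rsP Y' n).mapHomologicalComplex cS).obj K' where
  f p := lift' n (θ.f p)
  comm' i j _ := by
    change lift' n (θ.f i) ≫ (rsP Y' n).map (K'.d i j) = (CohTop.pull _).map ((rsP Y n).map (K.d i j)) ≫ lift' n (θ.f j)
    rw [← lift'_map, ← lift'_comp]
    exact congrArg _ (θ.comm i j)

/-- Homotopic maps have homotopic levels. -/
def homotopyLiftC (n : ℕ) {K : CochainComplex (PSh Y) ℤ} {K' : CochainComplex (PSh Y') ℤ}
    {θ θ' : K ⟶ ((PΦ Φ).mapHomologicalComplex cS).obj K'} (H : Homotopy θ θ') :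
    Homotopy (liftC n θ) (liftC n θ') := by
  let ad := KInjLib.adjComplexes (kA Φ (idx ⦋n⦌)) cS
  let cm : ((rsP Y n).mapHomologicalComplex cS).obj (((PΦ Φ).mapHomologicalComplex cS).obj K') ⟶
      ((kP Φ (idx ⦋n⦌)).mapHomologicalComplex cS).obj (((rsP Y' n).mapHomologicalComplex cS).obj K') :=
    { f := fun p => (cmpN n).inv.app (K'.X p)
      comm' := fun i j _ => ((cmpN n).inv.naturality (K'.d i j)).symm }
  have key : ∀ θ : K ⟶ ((PΦ Φ).mapHomologicalComplex cS).obj K', liftC n θ =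
      ((kL Φ (idx ⦋n⦌)).mapHomologicalComplex cS).map (((rsP Y n).mapHomologicalComplex cS).map θ ≫ cm) ≫
        ad.counit.app _ := fun θ => by
    ext p : 1
    exact (kA Φ (idx ⦋n⦌)).homEquiv_counit _ _ _
  exact (Homotopy.ofEq (key θ)).trans ((((kL Φ (idx ⦋n⦌)).mapHomotopy
    (((rsP Y n).mapHomotopy H).compRight cm)).compRight _).trans (Homotopy.ofEq (key θ').symm))

theorem quasiIso_of_homotopy {C : Type*} [Category* C] [Abelian C] {K L : CochainComplex C ℤ} {f g : K ⟶ L}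
    (H : Homotopy f g) [_root_.QuasiIso g] : _root_.QuasiIso f :=
  ⟨fun i => by
    rw [quasiIsoAt_iff_isIso_homologyMap, H.homologyMap_eq i]
    infer_instance⟩

theorem quasiIso_of_natIso {C : Type*} [Category* C] [Abelian C] {D : Type*} [Category* D] [Abelian D]
    {F G : C ⥤ D} [F.Additive] [G.Additive] (e : F ≅ G) {K L : CochainComplex C ℤ} (f : K ⟶ L)
    [h : _root_.QuasiIso ((G.mapHomologicalComplex cS).map f)] : _root_.QuasiIso ((F.mapHomologicalComplex cS).map f) :=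
  (quasiIso_iff_of_arrow_mk_iso _ _ (Arrow.isoMk ((NatIso.mapHomologicalComplex e cS).app K)
    ((NatIso.mapHomologicalComplex e cS).app L) ((NatIso.mapHomologicalComplex e cS).hom.naturality f).symm)).2 h

end Complexes

variable {pt : Y'.obj (bot DS)} (hF : IsFibre Φ pt)
include hF

/-- Levels of direct images. -/
def chiIso (n : ℕ) : PΦ Φ ⋙ Tn Y (Φ.app (bot DS) pt) n ≅ rsP Y' n ⋙ Gam _ :=
  NatIso.ofComponents (fun M => asIso (chiHom hF n M : _ ⟶ (rsP Y' n ⋙ Gam _).obj M))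
    fun φ => chiHom_naturality hF n φ

/-- Levels. -/
def omIso (n : ℕ) : Tn Y (Φ.app (bot DS) pt) n ≅ (rsP Y n ⋙ kL Φ (idx ⦋n⦌)) ⋙ Gam _ :=
  NatIso.ofComponents (fun M => asIso (omHom hF n M : _ ⟶ ((rsP Y n ⋙ kL Φ (idx ⦋n⦌)) ⋙ Gam _).obj M))
    fun φ => omHom_naturality hF n φ

theorem quasiIso_Tn {L : CochainComplex (Sheaf (topAugTop Y (bot DS)) AddCommGrpCat.{u}) ℤ} (a : ℤ)
    {J : CochainComplex (PSh Y) ℤ} (q : ((pull (topAug Y) (topAugTop Y) AddCommGrpCat.{u}).mapHomologicalComplex cS).obj L ⟶ J)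
    [_root_.QuasiIso q] [J.IsStrictlyGE a] (hJ : ∀ p, Injective (J.X p))
    {J' : CochainComplex (PSh Y') ℤ} [J'.IsStrictlyGE a] (hJ' : ∀ p, Injective (J'.X p))
    (q' : ((pull (topAug Y') (topAugTop Y') AddCommGrpCat.{u}).mapHomologicalComplex cS).obj
      (((kL Φ (bot DS)).mapHomologicalComplex cS).obj L) ⟶ J') [_root_.QuasiIso q']
    (θ : J ⟶ ((PΦ Φ).mapHomologicalComplex cS).obj J')
    (H : Homotopy (q ≫ θ) (xiC Φ L ≫ ((PΦ Φ).mapHomologicalComplex cS).map q')) (n : ℕ) :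
    _root_.QuasiIso (((Tn Y (Φ.app (bot DS) pt) n).mapHomologicalComplex cS).map θ) := by
  haveI := hF.cpt n
  haveI := (hF.sep n).t2
  haveI : IsIso (liftC n (xiC Φ L)) :=
    haveI : ∀ p, IsIso ((liftC n (xiC Φ L)).f p) := fun p => inferInstanceAs (IsIso (lift' n (xiP Φ (L.X p))))
    HomologicalComplex.Hom.isIso_of_components _
  have e1 : liftC n (xiC Φ L ≫ ((PΦ Φ).mapHomologicalComplex cS).map q') =
      liftC n (xiC Φ L) ≫ ((rsP Y' n).mapHomologicalComplex cS).map q' := by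
    ext p : 1
    exact lift'_map n _ _
  haveI : _root_.QuasiIso (((rsP Y' n).mapHomologicalComplex cS).map q') := inferInstance
  haveI : _root_.QuasiIso (liftC n (xiC Φ L ≫ ((PΦ Φ).mapHomologicalComplex cS).map q')) := by
    rw [e1]; exact quasiIso_comp _ _
  haveI hqθ : _root_.QuasiIso (liftC n (q ≫ θ)) := quasiIso_of_homotopy (homotopyLiftC n H)
  have e2 : liftC n (q ≫ θ) = ((kL Φ (idx ⦋n⦌)).mapHomologicalComplex cS).map
      (((rsP Y n).mapHomologicalComplex cS).map q) ≫ liftC n θ := by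
    ext p : 1
    exact lift'_comp n _ _
  rw [e2] at hqθ
  haveI := hqθ
  haveI : _root_.QuasiIso (((kL Φ (idx ⦋n⦌)).mapHomologicalComplex cS).map
      (((rsP Y n).mapHomologicalComplex cS).map q)) := (FibDouble8.quasiIso_map_iff _ _).2 fun k => by
        haveI : IsIso (HomologicalComplex.homologyMap (((rsP Y n).mapHomologicalComplex cS).map q) k) :=
          inferInstance
        exact Functor.map_isIso _ _
  haveI : _root_.QuasiIso (liftC n θ) := quasiIso_of_comp_left
    (((kL Φ (idx ⦋n⦌)).mapHomologicalComplex cS).map (((rsP Y n).mapHomologicalComplex cS).map q)) _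
  haveI : CochainComplex.IsStrictlyGE (((kL Φ (idx ⦋n⦌)).mapHomologicalComplex cS).obj
      (((rsP Y n).mapHomologicalComplex cS).obj J)) a := CochainComplex.isStrictlyGE_iff _ _ |>.2 fun i hi =>
    (show IsZero ((kL Φ (idx ⦋n⦌)).obj ((rsP Y n).obj (J.X i))) from
      (kL Φ (idx ⦋n⦌)).map_isZero ((rsP Y n).map_isZero (J.isZero_of_isStrictlyGE a i hi)))
  haveI : CochainComplex.IsStrictlyGE (((rsP Y' n).mapHomologicalComplex cS).obj J') a :=
    CochainComplex.isStrictlyGE_iff _ _ |>.2 fun i hi =>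
      (show IsZero ((rsP Y' n).obj (J'.X i)) from (rsP Y' n).map_isZero (J'.isZero_of_isStrictlyGE a i hi))
  haveI := quasiIso_Gam (liftC n θ) a
    (fun p => haveI := hJ p; haveI := isFlasque_rsP n (J.X p); soft_pull ((rsP Y n).obj (J.X p)) (hF.sep n))
    (fun p => haveI := hJ' p; haveI := isFlasque_rsP n (J'.X p); (show Soft ((rsP Y' n).obj (J'.X p)) from soft_of_isFlasque _))
  refine (quasiIso_iff_of_arrow_mk_iso (((Tn Y (Φ.app (bot DS) pt) n).mapHomologicalComplex cS).map θ)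
    (((Gam _).mapHomologicalComplex cS).map (liftC n θ)) (Arrow.isoMk
    (HomologicalComplex.Hom.isoOfComponents (fun p => (omIso hF n).app (J.X p))
      fun i j _ => ((omIso hF n).hom.naturality (J.d i j)).symm)
    (HomologicalComplex.Hom.isoOfComponents (fun p => (chiIso hF n).app (J'.X p))
      fun i j _ => ((chiIso hF n).hom.naturality (J'.d i j)).symm) ?_)).2 inferInstance
  ext p : 1
  refine Eq.symm ((chi_om hF n (θ.f p)).trans ?_)
  refine congrArg (omHom hF n (J.X p) ≫ ·) ?_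
  exact (congrArg (_ ≫ ·) ((J'.X p).obj.map_id _)).trans (Category.comp_id _)

/-- The full open subset of the base fibre lies over each neighbourhood. -/
theorem top_le₀ {U : Opens (Y.obj (bot DS))} (hU : Φ.app (bot DS) pt ∈ U) :
    (⊤ : Opens (Y'.obj (bot DS))) ≤ (Opens.map (Φ.app (bot DS))).obj U := fun z _ => by
  change Φ.app (bot DS) z ∈ U
  rw [hF.sub z]
  exact hU

/-- Global sections on the fibre of the base are stalks. -/
def gT : Gam (Y'.obj (bot DS)) ≅ stk pt :=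
  NatIso.ofComponents (fun G =>
    haveI : IsIso (TopCat.Presheaf.germ G.obj (⊤ : Opens (Y'.obj (bot DS))) pt trivial) := by
      rw [ConcreteCategory.isIso_iff_bijective]
      refine ⟨fun s t e => TopCat.Presheaf.section_ext G _ _ _ fun z _ => ?_, fun a => ?_⟩
      · obtain rfl := hF.sub z
        exact e
      · obtain ⟨U, hU, s, rfl⟩ := exists_germ pt a
        have h : (⊤ : Opens (Y'.obj (bot DS))) ≤ U := fun z _ => (hF.sub z).symm ▸ hU
        exact ⟨G.obj.map (homOfLE h).op s, germ_map h pt trivial s⟩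
    asIso (TopCat.Presheaf.germ G.obj (⊤ : Opens (Y'.obj (bot DS))) pt trivial))
    fun {G G'} φ => AddCommGrpCat.hom_ext (AddMonoidHom.ext fun s => (st_germ φ pt (U := (⊤ : Opens (Y'.obj (bot DS)))) trivial s).symm)

/-- Stalks of the base as global sections on the fibre. -/
def kap : stk (Φ.app (bot DS) pt) ≅ kL Φ (bot DS) ⋙ Gam _ :=
  NatIso.ofComponents (fun G =>
    haveI := isIso_stalkUnit (Φ.app (bot DS)) G pt
    asIso (stalkUnit (Φ.app (bot DS)) G pt) ≪≫ ((gT hF).app ((kL Φ (bot DS)).obj G)).symm)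
    fun {G G'} φ => by
      refine AddCommGrpCat.hom_ext (AddMonoidHom.ext fun a => ?_)
      obtain ⟨U, hU, x, rfl⟩ := exists_germ (Φ.app (bot DS) pt) a
      apply (ConcreteCategory.bijective_of_isIso ((gT hF).hom.app ((kL Φ (bot DS)).obj G'))).1
      change (gT hF).hom.app _ ((gT hF).inv.app _ (σ (Φ.app (bot DS)) G' pt (st φ _ _))) =
        (gT hF).hom.app _ ((Gam _).map _ ((gT hF).inv.app _ (σ (Φ.app (bot DS)) G pt _)))
      rw [Iso.inv_hom_id_app_apply, NatTrans.naturality_apply, Iso.inv_hom_id_app_apply, st_germ, σ_germ, σ_germ]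
      refine Eq.trans ?_ (st_germ ((kL Φ (bot DS)).map φ) pt _ _).symm
      refine congrArg (germ ((kL Φ (bot DS)).obj G') pt _) ?_
      exact congrArg (fun ψ => (ψ.hom.app (op U)) x) ((kA Φ (bot DS)).unit.naturality φ)

theorem kap_germ (G : Sheaf (topAugTop Y (bot DS)) AddCommGrpCat.{u}) {U : Opens (Y.obj (bot DS))}
    (hU : Φ.app (bot DS) pt ∈ U) (x : G.obj.obj (op U)) :
    (kap hF).hom.app G (germ G _ hU x) =
      ((kL Φ (bot DS)).obj G).obj.map (homOfLE (top_le₀ hF hU)).op (unitSec (Φ.app (bot DS)) G x) := by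
  apply (ConcreteCategory.bijective_of_isIso ((gT hF).hom.app ((kL Φ (bot DS)).obj G))).1
  change (gT hF).hom.app _ ((gT hF).inv.app _ (σ (Φ.app (bot DS)) G pt _)) = _
  rw [Iso.inv_hom_id_app_apply, σ_germ]
  exact (germ_map (top_le₀ hF hU) pt trivial _).symm

omit hF in
theorem iota_homEquiv {Z : (WithInitial DS)ᵒᵖ ⥤ TopCat.{u}} {G : Sheaf (topAugTop Z (bot DS)) AddCommGrpCat.{u}}
    {M : PSh Z} (ψ : (pull (topAug Z) (topAugTop Z) AddCommGrpCat.{u}).obj G ⟶ M) (U : Opens (Z.obj (bot DS)))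
    (x : G.obj.obj (op U)) :
    iota U M (((FibDesc.adj (topAug Z) (topAugTop Z) AddCommGrpCat.{u}).homEquiv G M ψ).hom.app (op U) x) =
      ψ.hom.app (op (pb Z U ⦋0⦌)) ((ext₀ Z G).obj.map (toBot Z (idx ⦋0⦌) U).op
        (((adj₀ Z).unit.app G).hom.app (op U) x)) := by
  have h : (FibDesc.adj (topAug Z) (topAugTop Z) AddCommGrpCat.{u}).homEquiv G M ψ =
      (adj₀ Z).unit.app G ≫ (rs Z (bot DS)).map ((adjR Z).homEquiv _ _ ψ) := by
    simp only [FibDesc.adj, Adjunction.comp_homEquiv, Equiv.trans_apply]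
    exact (adj₀ Z).homEquiv_unit _ _ _
  rw [h]
  have h2 : (inclR Z).map ((adjR Z).homEquiv _ _ ψ) ≫ (adjR Z).counit.app M = ψ :=
    ((adjR Z).homEquiv_counit _ _ _).symm.trans (Equiv.symm_apply_apply _ _)
  change ((adjR Z).counit.app M).hom.app _ (((ccR Z).obj M).obj.map _
    (((adjR Z).homEquiv _ _ ψ).hom.app (op (mkObj Z (bot DS) U)) (((adj₀ Z).unit.app G).hom.app (op U) x))) = _
  rw [← NatTrans.naturality_apply ((adjR Z).homEquiv _ _ ψ).hom]
  exact congrArg (fun η => (η.hom.app (op (pb Z U ⦋0⦌)))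
    ((ext₀ Z G).obj.map (toBot Z (idx ⦋0⦌) U).op (((adj₀ Z).unit.app G).hom.app (op U) x))) h2

omit hF in
/-- The direct image to the base fibre as a kernel. -/
def isKernel_iota (M : PSh Y') : IsLimit (KernelFork.ofι (iota ⊤ M)
    (show iota ⊤ M ≫ dv M ⊤ 0 = 0 from AddCommGrpCat.hom_ext (AddMonoidHom.ext fun a => dv_iota ⊤ M a))) :=
  let S : ShortComplex AddCommGrpCat.{u} := ShortComplex.mk (iota ⊤ M) (dv M ⊤ 0)
    (AddCommGrpCat.hom_ext (AddMonoidHom.ext fun a => dv_iota ⊤ M a))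
  haveI : Mono S.f := (AddCommGrpCat.mono_iff_injective _).2 (iota_injective ⊤ M)
  ((ShortComplex.ab_exact_iff S).2 fun a ha => exists_iota ⊤ M a ha).fIsKernel

/-- The direct images at the point. -/
def psiHom (M : PSh Y') : (Tp Y (Φ.app (bot DS) pt)).obj ((PΦ Φ).obj M) ⟶
    (Gam (Y'.obj (bot DS))).obj ((push (topAug Y') (topAugTop Y') AddCommGrpCat.{u}).obj M) :=
  (KernelFork.IsLimit.lift' (isKernel_iota M) ((iT Y (Φ.app (bot DS) pt)).app _ ≫ chiHom hF 0 M) (by
      rw [Category.assoc, ← chiHom_dT, ← Category.assoc]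
      refine AddCommGrpCat.hom_ext (AddMonoidHom.ext fun a => ?_)
      exact (congrArg (chiHom hF 1 M) (dT_iT ((PΦ Φ).obj M) a)).trans (map_zero _))).1

theorem iota_psiHom (M : PSh Y') (a : (Tp Y (Φ.app (bot DS) pt)).obj ((PΦ Φ).obj M)) :
    iota ⊤ M (psiHom hF M a) = chiHom hF 0 M ((iT Y _).app _ a) := by
  have h : psiHom hF M ≫ iota ⊤ M = (iT Y (Φ.app (bot DS) pt)).app _ ≫ chiHom hF 0 M :=
    (KernelFork.IsLimit.lift' (isKernel_iota M) ((iT Y (Φ.app (bot DS) pt)).app _ ≫ chiHom hF 0 M) _).2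
  exact ConcreteCategory.congr_hom h a

instance isIso_psiHom (M : PSh Y') : IsIso (psiHom hF M) := by
  rw [ConcreteCategory.isIso_iff_bijective]
  have hc : ∀ n, Function.Bijective (chiHom hF n M) := fun n => ConcreteCategory.bijective_of_isIso _
  refine ⟨fun a b e => iT_injective _ ((hc 0).1 ?_), fun y => ?_⟩
  · rw [← iota_psiHom, ← iota_psiHom, e]
  · obtain ⟨b, hb⟩ := (hc 0).2 (iota ⊤ M y)
    obtain ⟨a, rfl⟩ := exists_iT ((PΦ Φ).obj M) b ((hc 1).1 (by
      rw [map_zero]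
      exact (ConcreteCategory.congr_hom (chiHom_dT hF 0 M) b).trans ((congrArg _ hb).trans (dv_iota ⊤ M y))))
    exact ⟨a, iota_injective ⊤ M ((iota_psiHom hF M a).trans hb)⟩

/-- The direct images at the point, naturally. -/
def psiIso : PΦ Φ ⋙ Tp Y (Φ.app (bot DS) pt) ≅ push (topAug Y') (topAugTop Y') AddCommGrpCat.{u} ⋙ Gam _ :=
  NatIso.ofComponents (fun M => asIso (psiHom hF M :
    _ ⟶ (push (topAug Y') (topAugTop Y') AddCommGrpCat.{u} ⋙ Gam _).obj M)) fun {M N} φ => by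
    refine AddCommGrpCat.hom_ext (AddMonoidHom.ext fun a => iota_injective ⊤ N ?_)
    change iota ⊤ N (psiHom hF N ((Tp Y _).map _ a)) = iota ⊤ N (((PS Y').map φ).hom.app _ (psiHom hF M a))
    rw [iota_psiHom, NatTrans.naturality_apply]
    refine (ConcreteCategory.congr_hom (chiHom_naturality hF 0 φ) ((iT Y _).app _ a)).trans ?_
    refine (congrArg (φ.hom.app _) (iota_psiHom hF M a).symm).trans ?_
    exact (ConcreteCategory.congr_hom (congrArg (fun η => η.app (op (⊤ : Opens (Y'.obj (bot DS))))) ((irow Y').naturality φ)) (psiHom hF M a)).symm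

theorem point_eq {G : Sheaf (topAugTop Y (bot DS)) AddCommGrpCat.{u}} {M : PSh Y'}
    (ψ : (pull (topAug Y') (topAugTop Y') AddCommGrpCat.{u}).obj ((kL Φ (bot DS)).obj G) ⟶ M)
    (a : (stk (Φ.app (bot DS) pt)).obj G) :
    psiHom hF M ((stk (Φ.app (bot DS) pt)).map ((FibDesc.adj (topAug Y) (topAugTop Y) AddCommGrpCat.{u}).homEquiv G _
        (xiP Φ G ≫ (PΦ Φ).map ψ)) a) =
      ((FibDesc.adj (topAug Y') (topAugTop Y') AddCommGrpCat.{u}).homEquiv _ M ψ).hom.app (op (⊤ : Opens (Y'.obj (bot DS))))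
        ((kap hF).hom.app G a) := by
  obtain ⟨U, hU, x, rfl⟩ := exists_germ (Φ.app (bot DS) pt) a
  apply iota_injective ⊤ M
  rw [iota_psiHom]
  erw [TopCat.Presheaf.stalkFunctor_map_germ_apply]
  refine (congrArg (chiHom hF 0 M) (iT_germ ((PΦ Φ).obj M) hU _)).trans ((chiHom_germ hF 0 M hU _).trans ?_)
  refine (congrArg (M.obj.map _) (iota_homEquiv (xiP Φ G ≫ (PΦ Φ).map ψ) U x)).trans ?_
  rw [iota_homEquiv, kap_germ]
  let E := ext₀ Y' ((kL Φ (bot DS)).obj G)
  let y := (ext₀ Y G).obj.map (toBot Y (idx ⦋0⦌) U).op (((adj₀ Y).unit.app G).hom.app (op U) x)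
  have h := congrArg (fun η => (η.hom.app (op U)) x) (unit_xiT Φ G)
  have hy : (xiT Φ G).hom.app (op (mkObj Y (idx ⦋0⦌) (lev Y U ⦋0⦌))) y = E.obj.map ((ImT Φ).map (toBot Y (idx ⦋0⦌) U)).op
      (((adj₀ Y').unit.app ((kL Φ (bot DS)).obj G)).hom.app (op ((Opens.map (Φ.app (bot DS))).obj U))
        (unitSec (Φ.app (bot DS)) G x)) :=
    (NatTrans.naturality_apply (xiT Φ G).hom (toBot Y (idx ⦋0⦌) U).op _).trans (congrArg _ h)
  refine Eq.trans (NatTrans.naturality_apply ψ.hom (topArr hF 0 hU).op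
    ((xiT Φ G).hom.app (op (mkObj Y (idx ⦋0⦌) (lev Y U ⦋0⦌))) y)).symm ?_
  refine congrArg (ψ.hom.app (op (pb Y' ⊤ ⦋0⦌))) ?_
  refine (congrArg (((pull (topAug Y') (topAugTop Y') AddCommGrpCat.{u}).obj ((kL Φ (bot DS)).obj G)).obj.map _) hy).trans ?_
  refine Eq.trans ?_ (congrArg (E.obj.map _) (NatTrans.naturality_apply ((adj₀ Y').unit.app _).hom _ _).symm)
  refine (ConcreteCategory.congr_hom (E.obj.map_comp _ _) _).symm.trans
    (Eq.trans ?_ (ConcreteCategory.congr_hom (E.obj.map_comp _ _) _))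
  exact congrArg (fun t => E.obj.map t _) (Quiver.Hom.unop_inj (hom_ext Y' (botTerminal.hom_ext _ _)))

/-- At the point, the adjunct of a resolution is a quasi-isomorphism. -/
theorem quasiIso_stk_adjunct (hd : IsCohDescentTop Y')
    {L : CochainComplex (Sheaf (topAugTop Y (bot DS)) AddCommGrpCat.{u}) ℤ} (a : ℤ) [L.IsStrictlyGE a]
    {J : CochainComplex (PSh Y) ℤ} (q : ((pull (topAug Y) (topAugTop Y) AddCommGrpCat.{u}).mapHomologicalComplex cS).obj L ⟶ J)
    [_root_.QuasiIso q] [J.IsStrictlyGE a] (hJ : ∀ p, Injective (J.X p)) :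
    _root_.QuasiIso (((stk (Φ.app (bot DS) pt)).mapHomologicalComplex cS).map
      (adjunct (FibDesc.adj (topAug Y) (topAugTop Y) AddCommGrpCat.{u}) q)) := by
  letI := HasDerivedCategory.standard (PSh Y)
  letI := HasDerivedCategory.standard (PSh Y')
  letI := HasDerivedCategory.standard (BaseSh (topAug Y') (topAugTop Y') AddCommGrpCat.{u})
  let L' := ((kL Φ (bot DS)).mapHomologicalComplex cS).obj L
  let P' := ((pull (topAug Y') (topAugTop Y') AddCommGrpCat.{u}).mapHomologicalComplex cS).obj L'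
  haveI : CochainComplex.IsStrictlyGE L' a := CochainComplex.isStrictlyGE_iff _ _ |>.2 fun i hi =>
    (show IsZero ((kL Φ (bot DS)).obj (L.X i)) from (kL Φ (bot DS)).map_isZero (L.isZero_of_isStrictlyGE a i hi))
  haveI : CochainComplex.IsStrictlyGE P' a := CochainComplex.isStrictlyGE_iff _ _ |>.2 fun i hi =>
    (show IsZero ((pull (topAug Y') (topAugTop Y') AddCommGrpCat.{u}).obj (L'.X i)) from
      (pull (topAug Y') (topAugTop Y') AddCommGrpCat.{u}).map_isZero (CochainComplex.isZero_of_isStrictlyGE L' a i hi))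
  obtain ⟨J', q', hq', hi2, hge⟩ := CochainComplex.Plus.modelCategoryQuillen.exists_quasiIso_injective P' a
  haveI : J'.IsKInjective := CochainComplex.isKInjective_of_injective J' a
  obtain ⟨_, _, _, _, _, _, h⟩ := hd
  haveI hη' : _root_.QuasiIso (adjunct (FibDesc.adj (topAug Y') (topAugTop Y') AddCommGrpCat.{u}) q') :=
    quasiIso_adjunct_of_bijective _ q' ⟨a, inferInstance⟩ h
  let K : CochainComplex (PSh Y) ℤ := ((PΦ Φ).mapHomologicalComplex cS).obj J'
  haveI := hi2
  haveI : ∀ p, Injective (K.X p) := fun p => injective_PΦ Φ (J'.X p)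
  haveI : K.IsStrictlyGE a := CochainComplex.isStrictlyGE_iff _ _ |>.2 fun i hi =>
    (show IsZero ((PΦ Φ).obj (J'.X i)) from (PΦ Φ).map_isZero (J'.isZero_of_isStrictlyGE a i hi))
  haveI : K.IsKInjective := CochainComplex.isKInjective_of_injective K a
  let φ := xiC Φ L ≫ ((PΦ Φ).mapHomologicalComplex cS).map q'
  obtain ⟨θ, hθ⟩ := KInjLib.exists_map_eq (inv (DerivedCategory.Q.map q) ≫ DerivedCategory.Q.map φ)
  obtain ⟨H⟩ := (KInjLib.map_eq_iff (q ≫ θ) φ).1 (by rw [Functor.map_comp, hθ, IsIso.hom_inv_id_assoc])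
  have hTn := quasiIso_Tn hF a q hJ (fun p => hi2 p) q' θ H
  haveI hTp : _root_.QuasiIso (((Tp Y (Φ.app (bot DS) pt)).mapHomologicalComplex cS).map θ) :=
    quasiIso_Tp θ a hJ (fun p => inferInstance) hTn
  let η := adjunct (FibDesc.adj (topAug Y) (topAugTop Y) AddCommGrpCat.{u}) q
  let ηφ := adjunct (FibDesc.adj (topAug Y) (topAugTop Y) AddCommGrpCat.{u}) φ
  haveI : _root_.QuasiIso (((Gam (Y'.obj (bot DS))).mapHomologicalComplex cS).map
      (adjunct (FibDesc.adj (topAug Y') (topAugTop Y') AddCommGrpCat.{u}) q')) :=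
    haveI : _root_.QuasiIso (((stk pt).mapHomologicalComplex cS).map
      (adjunct (FibDesc.adj (topAug Y') (topAugTop Y') AddCommGrpCat.{u}) q')) :=
      (FibDouble8.quasiIso_map_iff _ _).2 fun k => inferInstance
    quasiIso_of_natIso (gT hF) _
  let eL : ((stk (Φ.app (bot DS) pt)).mapHomologicalComplex cS).obj L ≅
      ((Gam (Y'.obj (bot DS))).mapHomologicalComplex cS).obj L' :=
    HomologicalComplex.Hom.isoOfComponents (fun p => (kap hF).app (L.X p))
      fun i j _ => ((kap hF).hom.naturality (L.d i j)).symm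
  let eK : ((stk (Φ.app (bot DS) pt)).mapHomologicalComplex cS).obj
      (((push (topAug Y) (topAugTop Y) AddCommGrpCat.{u}).mapHomologicalComplex cS).obj K) ≅
      ((Gam (Y'.obj (bot DS))).mapHomologicalComplex cS).obj
        (((push (topAug Y') (topAugTop Y') AddCommGrpCat.{u}).mapHomologicalComplex cS).obj J') :=
    HomologicalComplex.Hom.isoOfComponents (fun p => (psiIso hF).app (J'.X p))
      fun i j _ => ((psiIso hF).hom.naturality (J'.d i j)).symm
  haveI hφ : _root_.QuasiIso (((stk (Φ.app (bot DS) pt)).mapHomologicalComplex cS).map ηφ) := by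
    refine (quasiIso_iff_of_arrow_mk_iso _ (((Gam (Y'.obj (bot DS))).mapHomologicalComplex cS).map
      (adjunct (FibDesc.adj (topAug Y') (topAugTop Y') AddCommGrpCat.{u}) q')) (Arrow.isoMk eL eK ?_)).2 inferInstance
    ext p : 1
    refine AddCommGrpCat.hom_ext (AddMonoidHom.ext fun x => ?_)
    change ((adjunct (FibDesc.adj (topAug Y') (topAugTop Y') AddCommGrpCat.{u}) q').f p).hom.app (op (⊤ : Opens (Y'.obj (bot DS))))
      ((kap hF).hom.app (L.X p) x) = psiHom hF (J'.X p) ((stk (Φ.app (bot DS) pt)).map (ηφ.f p) x)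
    refine Eq.trans ?_ (Eq.trans (point_eq hF (q'.f p) x).symm ?_)
    · refine congrArg (fun t : (kL Φ (bot DS)).obj (L.X p) ⟶ (push (topAug Y') (topAugTop Y') AddCommGrpCat.{u}).obj (J'.X p) => t.hom.app (op (⊤ : Opens (Y'.obj (bot DS)))) ((kap hF).hom.app (L.X p) x)) ?_
      rw [adjunct, Adjunction.homEquiv_unit]
      exact ((FibDesc.adj (topAug Y') (topAugTop Y') AddCommGrpCat.{u}).homEquiv_unit _ _ _).symm
    · refine congrArg (fun t : L.X p ⟶ (push (topAug Y) (topAugTop Y) AddCommGrpCat.{u}).obj (K.X p) => psiHom hF (J'.X p) ((stk (Φ.app (bot DS) pt)).map t x)) ?_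
      simp only [ηφ, adjunct, Adjunction.homEquiv_unit]
      rfl
  let θ₁ := ((push (topAug Y) (topAugTop Y) AddCommGrpCat.{u}).mapHomologicalComplex cS).map θ
  let H₁ : Homotopy (η ≫ θ₁) ηφ :=
    (Homotopy.ofEq (Adjunction.homEquiv_naturality_right _ q θ).symm).trans
      ((Homotopy.ofEq (Adjunction.homEquiv_unit _ _ _ _)).trans
        ((((push (topAug Y) (topAugTop Y) AddCommGrpCat.{u}).mapHomotopy H).compLeft _).trans
          (Homotopy.ofEq (Adjunction.homEquiv_unit _ _ _ _).symm)))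
  haveI h2 : _root_.QuasiIso (((stk (Φ.app (bot DS) pt)).mapHomologicalComplex cS).map (η ≫ θ₁)) :=
    quasiIso_of_homotopy ((stk (Φ.app (bot DS) pt)).mapHomotopy H₁)
  rw [Functor.map_comp] at h2
  haveI := h2
  haveI : _root_.QuasiIso (((stk (Φ.app (bot DS) pt)).mapHomologicalComplex cS).map θ₁) := hTp
  exact quasiIso_of_comp_right _ (((stk (Φ.app (bot DS) pt)).mapHomologicalComplex cS).map θ₁)

end Groth.Agent.FibProper8
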