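import Groth.Agent.Lib.FibSplit8.Main
import Groth.Agent.Lib.FibLocal8.Restrict
import Groth.Agent.Lib.KInj.Resolution
import Groth.Prelude.Def_CohTop
import Groth.Agent.Lib.SheafVan16.ProperBC
import Mathlib.Topology.Sheaves.Sheaf

/-!
# Maps of augmented families of spaces: direct image on the parts, extensions from the base
-/

set_option autoImplicit false
set_option backward.isDefEq.respectTransparency false
set_option backward.isDefEq.respectTransparency.types false
set_option maxHeartbeats 1000000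

universe u

open CategoryTheory CategoryTheory.Limits Opposite TopologicalSpace Pseudofunctor.CoGrothendieck FibDesc
open Groth.Agent.FibSplit8 Groth.Agent.FibLocal8

noncomputable section

namespace Groth.Agent.FibProper8

variable {D : Type} [Category.{0} D] {Y' Y : (WithInitial D)ᵒᵖ ⥤ TopCat.{u}} (Φ : Y' ⟶ Y)

local notation "FY" => topAug Y
local notation "JY" => topAugTop Y
local notation "GY" => topAug Y'
local notation "KY" => topAugTop Y'

theorem le_preimage {i k : (WithInitial D)ᵒᵖ} (f : i ⟶ k) {U : Opens (Y.obj i)} {V : Opens (Y.obj k)}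
    (h : U ≤ (Opens.map (Y.map f)).obj V) :
    (Opens.map (Φ.app i)).obj U ≤ (Opens.map (Y'.map f)).obj ((Opens.map (Φ.app k)).obj V) := fun x hx => by
  have h1 : Y.map f (Φ.app i x) ∈ V := h hx
  change Φ.app k (Y'.map f x) ∈ V
  rw [show Φ.app k (Y'.map f x) = Y.map f (Φ.app i x) from congrArg (fun φ => φ x) (Φ.naturality f)]
  exact h1

/-- Preimages on the total sites. -/
def ImT : ∫ᶜ FY ⥤ ∫ᶜ GY where
  obj X := mkObj Y' X.base ((Opens.map (Φ.app X.base)).obj (opn Y X))
  map {X Z} g := homMk Y' (a := mkObj Y' X.base ((Opens.map (Φ.app X.base)).obj (opn Y X)))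
    (b := mkObj Y' Z.base ((Opens.map (Φ.app Z.base)).obj (opn Y Z))) g.base (le_preimage Φ g.base (hom_le Y g))
  map_id X := hom_ext Y' rfl
  map_comp f g := hom_ext Y' rfl

/-- Preimages on the total sites of the parts. -/
def ImP : ∫ᶜ (part FY) ⥤ ∫ᶜ (part GY) where
  obj X := mkObjPart Y' X.base ((Opens.map (Φ.app ((toAug D).obj X.base))).obj X.fiber)
  map {X Z} g := homMkPart (a := mkObjPart Y' X.base ((Opens.map (Φ.app ((toAug D).obj X.base))).obj X.fiber))
    (b := mkObjPart Y' Z.base ((Opens.map (Φ.app ((toAug D).obj Z.base))).obj Z.fiber)) g.base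
    (le_preimage Φ ((toAug D).map g.base) (leOfHom (X := Opens (Y.obj ((toAug D).obj X.base))) g.fiber))
  map_id X := hom_ext_part rfl
  map_comp f g := hom_ext_part rfl

instance ImT_continuous : (ImT Φ).IsContinuous (totAug FY JY) (totAug GY KY) := by
  refine (FC16.FibTotal.isContinuous_iff (isPreFibSite Y) _ _).2 fun i => ?_
  haveI : (Opens.map (Φ.app i)).IsContinuous (JY i) (KY i) := inferInstanceAs ((Opens.map (Φ.app i)).IsContinuous _ _)
  haveI := ι_continuous Y' i
  exact Functor.isContinuous_comp' (F₁ := Opens.map (Φ.app i)) (F₂ := ι GY i) (F₁₂ := ι FY i ⋙ ImT Φ)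
    (NatIso.ofComponents (fun U => Iso.refl _) fun g => hom_ext Y'
      ((Category.comp_id _).trans (Category.id_comp _).symm)) (JY i) (KY i) _

instance ImP_continuous : (ImP Φ).IsContinuous (totPart FY JY) (totPart GY KY) := by
  refine (FC16.FibTotal.isContinuous_iff (isPreFibSite_part Y) _ _).2 fun i => ?_
  haveI : (Opens.map (Φ.app ((toAug D).obj i))).IsContinuous (partTop FY JY i) (partTop GY KY i) :=
    inferInstanceAs ((Opens.map (Φ.app ((toAug D).obj i))).IsContinuous _ _)
  haveI : (ι (part GY) i).IsContinuous (partTop GY KY i) (totPart GY KY) :=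
    FC16.FibTotal.ι_isContinuous (isPreFibSite_part Y') _
  exact Functor.isContinuous_comp' (F₁ := Opens.map (Φ.app ((toAug D).obj i))) (F₂ := ι (part GY) i)
    (F₁₂ := ι (part FY) i ⋙ ImP Φ)
    (NatIso.ofComponents (fun U => Iso.refl _) fun g => hom_ext_part
      ((Category.comp_id _).trans (Category.id_comp _).symm)) (partTop FY JY i) (partTop GY KY i) _

instance ImP_flat : RepresentablyFlat (ImP Φ) where
  cofiltered X := by
    let mkW : ∀ U : Opens (Y.obj ((toAug D).obj X.base)),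
        (@LE.le (Opens (Y'.obj ((toAug D).obj X.base))) _ X.fiber ((Opens.map (Φ.app ((toAug D).obj X.base))).obj U)) →
        StructuredArrow X (ImP Φ) := fun U hU =>
      StructuredArrow.mk (Y := mkObjPart Y X.base U)
        (homMkPart (a := X) (b := (ImP Φ).obj (mkObjPart Y X.base U)) (𝟙 X.base)
          (le_trans hU (le_of_eq (by rw [(toAug D).map_id]; exact (map_id_obj _ _).symm))))
    let pre : StructuredArrow X (ImP Φ) → Opens (Y.obj ((toAug D).obj X.base)) := fun a =>
      (Opens.map (Y.map ((toAug D).map a.hom.base))).obj a.right.fiber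
    have key : ∀ a : StructuredArrow X (ImP Φ),
        @LE.le (Opens (Y'.obj ((toAug D).obj X.base))) _ X.fiber ((Opens.map (Φ.app _)).obj (pre a)) := fun a x hx => by
      let O : Opens (Y.obj ((toAug D).obj a.right.base)) := a.right.fiber
      have h : Φ.app ((toAug D).obj a.right.base) (Y'.map ((toAug D).map a.hom.base) x) ∈ O :=
        leOfHom (X := Opens (Y'.obj ((toAug D).obj X.base))) a.hom.fiber hx
      rw [show Φ.app ((toAug D).obj a.right.base) (Y'.map ((toAug D).map a.hom.base) x) =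
        Y.map ((toAug D).map a.hom.base) (Φ.app _ x) from
          ConcreteCategory.congr_hom (Φ.naturality ((toAug D).map a.hom.base)) x] at h
      exact h
    have homW : ∀ U hU (a : StructuredArrow X (ImP Φ)), U ≤ pre a →
        ∃ t : mkW U hU ⟶ a, t.right.base = a.hom.base := fun U hU a h =>
      ⟨StructuredArrow.homMk (homMkPart (a := mkObjPart Y X.base U) (b := a.right) a.hom.base h)
        (hom_ext_part (Category.id_comp _)), rfl⟩
    haveI : Nonempty (StructuredArrow X (ImP Φ)) := ⟨mkW ⊤ fun _ _ => trivial⟩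
    haveI : IsCofilteredOrEmpty (StructuredArrow X (ImP Φ)) := by
      refine ⟨fun a b => ?_, fun a b f g => ?_⟩
      · obtain ⟨t, -⟩ := homW (pre a ⊓ pre b) (fun x hx => ⟨key a hx, key b hx⟩) a inf_le_left
        obtain ⟨t', -⟩ := homW (pre a ⊓ pre b) (fun x hx => ⟨key a hx, key b hx⟩) b inf_le_right
        exact ⟨_, t, t', trivial⟩
      · obtain ⟨t, ht⟩ := homW _ (key a) a le_rfl
        refine ⟨_, t, StructuredArrow.hom_ext _ _ (hom_ext_part ?_)⟩
        change t.right.base ≫ f.right.base = t.right.base ≫ g.right.base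
        rw [ht]
        exact (congrArg Pseudofunctor.CoGrothendieck.Hom.base (StructuredArrow.w f)).trans
          (congrArg Pseudofunctor.CoGrothendieck.Hom.base (StructuredArrow.w g)).symm
    exact {}

/-- Direct image on the total sites. -/
abbrev TΦ : TSh Y' ⥤ TSh Y :=
  (ImT Φ).sheafPushforwardContinuous AddCommGrpCat.{u} (totAug FY JY) (totAug GY KY)

/-- Direct image on the parts. -/
abbrev PΦ : PSh Y' ⥤ PSh Y :=
  (ImP Φ).sheafPushforwardContinuous AddCommGrpCat.{u} (totPart FY JY) (totPart GY KY)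

instance additive_PΦ : (PΦ Φ).Additive where

/-- Inverse image on the parts. -/
abbrev LΦ : PSh Y ⥤ PSh Y' := (ImP Φ).sheafPullback AddCommGrpCat.{u} (totPart FY JY) (totPart GY KY)

instance preservesFiniteLimits_LΦ : PreservesFiniteLimits (LΦ Φ) :=
  haveI : PreservesFiniteLimits ((ImP Φ).op.lan (H := AddCommGrpCat.{u})) :=
    lan_preservesFiniteLimits_of_flat AddCommGrpCat.{u} (ImP Φ)
  Functor.sheafPullbackConstruction.preservesFiniteLimits (ImP Φ) AddCommGrpCat.{u} _ _

theorem injective_PΦ (M : PSh Y') [Injective M] : Injective ((PΦ Φ).obj M) :=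
  Injective.injective_of_adjoint
    ((ImP Φ).sheafAdjunctionContinuous AddCommGrpCat.{u} (totPart FY JY) (totPart GY KY)) M

/-- Direct image commutes with forgetting the augmentation. -/
def cmpP : TΦ Φ ⋙ inclR Y ≅ inclR Y' ⋙ PΦ Φ :=
  NatIso.ofComponents (fun M => (fullyFaithfulSheafToPresheaf _ _).preimageIso
    (NatIso.ofComponents (fun U => Iso.refl _) fun g => by
      change M.obj.map _ ≫ 𝟙 _ = 𝟙 _ ≫ M.obj.map _
      rw [Category.comp_id, Category.id_comp]
      exact congrArg M.obj.map (Quiver.Hom.unop_inj (hom_ext Y' rfl))))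
    fun φ => by
      apply Sheaf.hom_ext
      ext U : 2
      change _ ≫ 𝟙 _ = 𝟙 _ ≫ _
      rw [Category.comp_id, Category.id_comp]
      rfl

/-- Direct image on a fibre. -/
abbrev kP (i : (WithInitial D)ᵒᵖ) : Sheaf (KY i) AddCommGrpCat.{u} ⥤ Sheaf (JY i) AddCommGrpCat.{u} :=
  CohTop.push (Φ.app i)

/-- Inverse image on a fibre. -/
abbrev kL (i : (WithInitial D)ᵒᵖ) : Sheaf (JY i) AddCommGrpCat.{u} ⥤ Sheaf (KY i) AddCommGrpCat.{u} :=
  CohTop.pull (Φ.app i)

/-- Their adjunction. -/
abbrev kA (i : (WithInitial D)ᵒᵖ) : kL Φ i ⊣ kP Φ i :=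
  TopCat.Sheaf.pullbackPushforwardAdjunction AddCommGrpCat.{u} (Φ.app i)

/-- Direct image commutes with restriction to a fibre. -/
def cmpR (i : (WithInitial D)ᵒᵖ) : rs Y' i ⋙ kP Φ i ≅ TΦ Φ ⋙ rs Y i :=
  NatIso.ofComponents (fun M => (fullyFaithfulSheafToPresheaf _ _).preimageIso
    (NatIso.ofComponents (fun U => Iso.refl _) fun g => by
      change M.obj.map _ ≫ 𝟙 _ = 𝟙 _ ≫ M.obj.map _
      rw [Category.comp_id, Category.id_comp]
      exact congrArg M.obj.map (Quiver.Hom.unop_inj (hom_ext Y' rfl))))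
    fun φ => by
      apply Sheaf.hom_ext
      ext U : 2
      change _ ≫ 𝟙 _ = 𝟙 _ ≫ _
      rw [Category.comp_id, Category.id_comp]
      rfl

/-- The comparison of extensions from the base. -/
def xiT (G : Sheaf (JY (bot D)) AddCommGrpCat.{u}) :
    ext₀ Y G ⟶ (TΦ Φ).obj (ext₀ Y' ((kL Φ (bot D)).obj G)) :=
  ((adj₀ Y).homEquiv _ _).symm ((kA Φ (bot D)).unit.app G ≫
    (kP Φ (bot D)).map ((adj₀ Y').unit.app _) ≫ (cmpR Φ (bot D)).hom.app _)

theorem unit_xiT (G : Sheaf (JY (bot D)) AddCommGrpCat.{u}) :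
    (adj₀ Y).unit.app G ≫ (rs Y (bot D)).map (xiT Φ G) = (kA Φ (bot D)).unit.app G ≫
      (kP Φ (bot D)).map ((adj₀ Y').unit.app _) ≫ (cmpR Φ (bot D)).hom.app _ :=
  ((adj₀ Y).homEquiv_unit _ _ _).symm.trans (Equiv.apply_symm_apply _ _)

theorem xiT_naturality {G G' : Sheaf (JY (bot D)) AddCommGrpCat.{u}} (f : G ⟶ G') :
    (FibSite.extend FY JY AddCommGrpCat.{u} (bot D)).map f ≫ xiT Φ G' =
      xiT Φ G ≫ (TΦ Φ).map ((FibSite.extend GY KY AddCommGrpCat.{u} (bot D)).map ((kL Φ (bot D)).map f)) := by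
  rw [xiT, xiT, ← Adjunction.homEquiv_naturality_left_symm, ← Adjunction.homEquiv_naturality_right_symm]
  refine congrArg _ ?_
  rw [← Category.assoc]
  refine (congrArg (· ≫ _) ((kA Φ (bot D)).unit.naturality f)).trans ?_
  simp only [Functor.comp_map, Category.assoc]
  refine congrArg (_ ≫ ·) ?_
  rw [← Category.assoc, ← Functor.map_comp]
  refine (congrArg (fun t => (kP Φ (bot D)).map t ≫ _) ((adj₀ Y').unit.naturality ((kL Φ (bot D)).map f))).trans ?_
  rw [Functor.map_comp, Category.assoc]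
  exact congrArg (_ ≫ ·) ((cmpR Φ (bot D)).hom.naturality _)

/-- The comparison of inverse images on a fibre. -/
def xiL (i : (WithInitial D)ᵒᵖ) (G : Sheaf (JY (bot D)) AddCommGrpCat.{u}) :
    (kL Φ i).obj ((rs Y i).obj (ext₀ Y G)) ⟶ (rs Y' i).obj (ext₀ Y' ((kL Φ (bot D)).obj G)) :=
  ((kA Φ i).homEquiv _ _).symm ((rs Y i).map (xiT Φ G) ≫ (cmpR Φ i).inv.app _)

theorem preimage_eps (i : (WithInitial D)ᵒᵖ) (U : Opens (Y.obj (bot D))) :
    (Opens.map (Φ.app i)).obj ((Opens.map (epsMap Y i)).obj U) =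
      (Opens.map (epsMap Y' i)).obj ((Opens.map (Φ.app (bot D))).obj U) := by
  rw [← Opens.map_comp_obj, ← Opens.map_comp_obj, ← Φ.naturality (botTerminal.from i)]

instance isIso_xiL (i : (WithInitial D)ᵒᵖ) (G : Sheaf (JY (bot D)) AddCommGrpCat.{u}) : IsIso (xiL Φ i G) := by
  have hb : ∀ A, Function.Bijective fun χ : (rs Y' i).obj (ext₀ Y' ((kL Φ (bot D)).obj G)) ⟶ A => xiL Φ i G ≫ χ := by
    intro A
    let κ : (kP Φ (bot D)).obj ((pushE Y' i).obj A) ⟶ (pushE Y i).obj ((kP Φ i).obj A) :=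
      { hom :=
          { app := fun U => A.obj.map (eqToHom (C := Opens (Y'.obj i)) (preimage_eps Φ i U.unop)).op
            naturality := fun U V g => (A.obj.map_comp _ _).symm.trans
              ((congrArg A.obj.map (Subsingleton.elim _ _)).trans (A.obj.map_comp _ _)) } }
    haveI : IsIso κ := by
      refine @isIso_of_reflects_iso _ _ _ _ _ _ κ (sheafToPresheaf _ _) ?_ _
      refine @NatIso.isIso_of_isIso_app _ _ _ _ _ _ _ fun U => ?_
      change IsIso (A.obj.map (eqToHom (C := Opens (Y'.obj i)) (preimage_eps Φ i U.unop)).op)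
      infer_instance
    refine (Function.Bijective.of_comp_iff' ((comp_toPush_bijective Y i G ((kP Φ i).obj A)).comp
      ((kA Φ i).homEquiv _ A).bijective) _).1 ?_
    refine (congrArg Function.Bijective (funext fun χ => ?_)).mp
      (((asIso κ).homToEquiv (Z := G)).bijective.comp (((kA Φ (bot D)).homEquiv G _).bijective.comp
        (comp_toPush_bijective Y' i ((kL Φ (bot D)).obj G) A)))
    simp only [Function.comp_apply, Iso.homToEquiv_apply, asIso_hom]
    rw [(kA Φ (bot D)).homEquiv_unit]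
    rw [(kA Φ i).homEquiv_naturality_right, xiL, Equiv.apply_symm_apply]
    simp only [toPush, Functor.map_comp, Category.assoc]
    refine Eq.symm ?_
    rw [← Category.assoc (rho Y i _), ← rho_naturality, Category.assoc, ← Category.assoc ((adj₀ Y).unit.app G)]
    rw [unit_xiT]
    simp only [Category.assoc]
    refine congrArg (fun t => _ ≫ _ ≫ t) ?_
    apply Sheaf.hom_ext
    ext U : 2
    change 𝟙 _ ≫ ((ext₀ Y' ((kL Φ (bot D)).obj G)).obj.map ((ImT Φ).map (toBot Y i U.unop)).op ≫ 𝟙 _ ≫ χ.hom.app _) =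
      (ext₀ Y' ((kL Φ (bot D)).obj G)).obj.map (toBot Y' i ((Opens.map (Φ.app (bot D))).obj U.unop)).op ≫
        χ.hom.app _ ≫ A.obj.map _
    simp only [Category.id_comp]
    rw [← χ.hom.naturality, ← Category.assoc]
    refine congrArg (· ≫ _) ?_
    refine Eq.trans ?_ ((ext₀ Y' ((kL Φ (bot D)).obj G)).obj.map_comp _ _)
    exact congrArg _ (Quiver.Hom.unop_inj (hom_ext Y' (botTerminal.hom_ext _ _)))
  obtain ⟨r, hr⟩ := (hb _).2 (𝟙 _)
  refine ⟨r, hr, (hb _).1 ?_⟩
  change xiL Φ i G ≫ r ≫ _ = _ ≫ 𝟙 _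
  rw [← Category.assoc, show xiL Φ i G ≫ r = 𝟙 _ from hr]
  exact (Category.id_comp _).trans (Category.comp_id _).symm

/-- The comparison of inverse images on the parts. -/
def xiP (G : Sheaf (JY (bot D)) AddCommGrpCat.{u}) :
    (pull FY JY AddCommGrpCat.{u}).obj G ⟶ (PΦ Φ).obj ((pull GY KY AddCommGrpCat.{u}).obj ((kL Φ (bot D)).obj G)) :=
  (inclR Y).map (xiT Φ G) ≫ (cmpP Φ).hom.app _

theorem xiP_naturality {G G' : Sheaf (JY (bot D)) AddCommGrpCat.{u}} (f : G ⟶ G') :
    (pull FY JY AddCommGrpCat.{u}).map f ≫ xiP Φ G' =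
      xiP Φ G ≫ (PΦ Φ).map ((pull GY KY AddCommGrpCat.{u}).map ((kL Φ (bot D)).map f)) := by
  rw [xiP, xiP, Functor.comp_map, ← Category.assoc, ← Functor.map_comp, xiT_naturality, Functor.map_comp,
    Category.assoc, Category.assoc]
  exact congrArg (_ ≫ ·) ((cmpP Φ).hom.naturality _)

end Groth.Agent.FibProper8
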