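import Groth.Agent.Lib.SheafVan16.Hausdorff
import Groth.Agent.Lib.RFPlus.Adapted
import Mathlib.Algebra.Homology.HomotopyCategory.MappingCone
import Mathlib.CategoryTheory.Abelian.Refinements

/-!
# Global sections of bounded below acyclic complexes of soft sheaves
-/

set_option autoImplicit false
set_option backward.isDefEq.respectTransparency false
set_option backward.isDefEq.respectTransparency.types false
set_option maxHeartbeats 1000000

universe u

open CategoryTheory CategoryTheory.Limits Opposite TopologicalSpace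
open Groth.Agent.SheafVan16 Groth.Agent.CohFound Groth.Agent.GodTot16 Groth.Agent.RFPlus

noncomputable section

namespace Groth.Agent.FibProper8

variable {Z : TopCat.{u}}

local notation "cS" => ComplexShape.up ℤ

/-- Global sections. -/
abbrev Gam (Z : TopCat.{u}) : CohTop.Ab Z ⥤ AddCommGrpCat.{u} :=
  sheafToPresheaf (Opens.grothendieckTopology Z) AddCommGrpCat.{u} ⋙ (evaluation _ _).obj (op (⊤ : Opens Z))

instance additive_Gam : (Gam Z).Additive where

theorem soft_biprod {A B : CohTop.Ab Z} (hA : Soft A) (hB : Soft B) : Soft (A ⊞ B) := by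
  intro K hK O hKO t
  obtain ⟨a, ha⟩ := hA K hK O hKO ((biprod.fst : A ⊞ B ⟶ A).hom.app (op O) t)
  obtain ⟨b, hb⟩ := hB K hK O hKO ((biprod.snd : A ⊞ B ⟶ B).hom.app (op O) t)
  refine ⟨(biprod.inl : A ⟶ A ⊞ B).hom.app (op ⊤) a + (biprod.inr : B ⟶ A ⊞ B).hom.app (op ⊤) b,
    fun z hz => ?_⟩
  refine (map_add _ _ _).trans ?_
  refine (congrArg₂ (· + ·) ((st_germ (biprod.inl : A ⟶ A ⊞ B) z _ a).symm.trans ((congrArg _ (ha z hz)).trans
      ((congrArg _ (st_germ (biprod.fst : A ⊞ B ⟶ A) z (hKO hz) t).symm).trans (st_comp _ _ _ _).symm)))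
    ((st_germ (biprod.inr : B ⟶ A ⊞ B) z _ b).symm.trans ((congrArg _ (hb z hz)).trans
      ((congrArg _ (st_germ (biprod.snd : A ⊞ B ⟶ B) z (hKO hz) t).symm).trans (st_comp _ _ _ _).symm)))).trans ?_
  rw [← st_add, biprod.total, st_id]

theorem soft_zero {A : CohTop.Ab Z} (h : IsZero A) : Soft A := fun K _ O hKO t => by
  refine ⟨0, fun z hz => ?_⟩
  have e : (stk z).map (𝟙 A) = (stk z).map 0 := congrArg _ (h.eq_of_src _ _)
  rw [(stk z).map_id, Functor.map_zero] at e
  exact (map_zero _).trans (ConcreteCategory.congr_hom e (germ A z (hKO hz) t)).symm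

theorem acyclic_Gam [CompactSpace Z] [T2Space Z] {C : CochainComplex (CohTop.Ab Z) ℤ} (a : ℤ) [C.IsStrictlyGE a]
    (hac : C.Acyclic) (hs : ∀ p, Soft (C.X p)) : (((Gam Z).mapHomologicalComplex cS).obj C).Acyclic := by
  let p : ∀ i, C.X i ⟶ kernel (C.d (i + 1) (i + 1 + 1)) := fun i => kernel.lift _ (C.d i (i + 1)) (C.d_comp_d _ _ _)
  have hp : ∀ i, Epi (p i) := fun i =>
    ((C.sc' i (i + 1) (i + 1 + 1)).exact_iff_epi_kernel_lift).1
      ((C.exactAt_iff' i (i + 1) (i + 1 + 1) (by simp) (by simp)).1 (hac (i + 1)))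
  have hw : ∀ i, kernel.ι (C.d i (i + 1)) ≫ p i = 0 := fun i => by
    rw [← cancel_mono (kernel.ι _)]; simp [p]
  have hse : ∀ i, (ShortComplex.mk _ _ (hw i)).ShortExact := fun i => by
    haveI := hp i
    refine { exact := ShortComplex.exact_of_f_is_kernel _ (KernelFork.IsLimit.ofι' _ (hw i) fun k hk =>
      ⟨kernel.lift _ k (by
        have h := congrArg (· ≫ kernel.ι (C.d (i + 1) (i + 1 + 1))) hk
        simpa [p] using h), kernel.lift_ι _ _ _⟩) }
  have hZ : ∀ (k : ℕ) (i : ℤ), i < a + k → Soft (kernel (C.d i (i + 1))) := by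
    intro k
    induction k with
    | zero => exact fun i hi => soft_zero (IsZero.of_mono (kernel.ι _) (C.isZero_of_isStrictlyGE a i (by simpa using hi)))
    | succ k ih =>
      intro i hi
      obtain ⟨l, rfl⟩ : ∃ l, i = l + 1 := ⟨i - 1, by omega⟩
      exact soft_X₃ (S := ShortComplex.mk _ _ (hw l)) (ih l (by push_cast at hi; omega)) (hs l) (hse l)
  intro i
  obtain ⟨k, rfl⟩ : ∃ k, i = k + 1 := ⟨i - 1, by omega⟩
  have hk : Function.Surjective ((p k).hom.app (op (⊤ : Opens Z))) :=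
    surjective_app_top (S := ShortComplex.mk _ _ (hw k)) (hZ (k + 1 - a).toNat k (by omega)) (hse k)
  rw [HomologicalComplex.exactAt_iff' _ k (k + 1) (k + 1 + 1) (by simp) (by simp), ShortComplex.ab_exact_iff]
  intro (x : (C.X (k + 1)).obj.obj (op ⊤)) (hx : (C.d (k + 1) (k + 1 + 1)).hom.app (op ⊤) x = 0)
  have hker : ∃ y, (kernel.ι (C.d (k + 1) (k + 1 + 1))).hom.app (op (⊤ : Opens Z)) y = x := by
    have hl := isLimitOfPreserves (Gam Z) (kernelIsKernel (C.d (k + 1) (k + 1 + 1)))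
    let S : ShortComplex AddCommGrpCat.{u} := ShortComplex.mk ((Gam Z).map (kernel.ι (C.d (k + 1) (k + 1 + 1))))
      ((Gam Z).map (C.d (k + 1) (k + 1 + 1))) (by rw [← Functor.map_comp, kernel.condition, Functor.map_zero])
    exact (ShortComplex.ab_exact_iff S).1
      (ShortComplex.exact_of_f_is_kernel S ((isLimitMapConeForkEquiv' (Gam Z) (kernel.condition _)) hl)) x hx
  obtain ⟨y, rfl⟩ := hker
  obtain ⟨w, rfl⟩ := hk y
  refine ⟨w, ?_⟩
  exact (ConcreteCategory.congr_hom (congrArg (fun φ => φ.hom.app (op (⊤ : Opens Z)))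
    (kernel.lift_ι (C.d (k + 1) (k + 1 + 1)) (C.d k (k + 1)) (C.d_comp_d _ _ _))) w).symm

theorem quasiIso_Gam [CompactSpace Z] [T2Space Z] {K L : CochainComplex (CohTop.Ab Z) ℤ} (φ : K ⟶ L) (a : ℤ)
    [K.IsStrictlyGE a] [L.IsStrictlyGE a] [_root_.QuasiIso φ] (hK : ∀ p, Soft (K.X p)) (hL : ∀ p, Soft (L.X p)) :
    _root_.QuasiIso (((Gam Z).mapHomologicalComplex cS).map φ) := by
  rw [quasiIso_iff_acyclic_cone]
  have hX : ∀ p, Soft ((CochainComplex.mappingCone φ).X p) := fun p => by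
    let e := HomologicalComplex.homotopyCofiber.XIsoBiprod φ p (p + 1) rfl
    intro C hC O hCO t
    obtain ⟨g, hg⟩ := soft_biprod (hK (p + 1)) (hL p) C hC O hCO (e.hom.hom.app (op O) t)
    refine ⟨e.inv.hom.app (op ⊤) g, fun z hz => ?_⟩
    refine ((st_germ e.inv z _ g).symm.trans ((congrArg _ (hg z hz)).trans
      ((congrArg _ (st_germ e.hom z (hCO hz) t).symm).trans (st_comp _ _ _ _).symm))).trans ?_
    rw [e.hom_inv_id, st_id]
    rfl
  haveI : CochainComplex.IsStrictlyGE (CochainComplex.mappingCone φ) (a - 1) :=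
    CochainComplex.isStrictlyGE_iff _ _ |>.2 fun p hp => IsZero.of_iso ((biprod_isZero_iff _ _).2
      ⟨K.isZero_of_isStrictlyGE a (p + 1) (by omega), L.isZero_of_isStrictlyGE a p (by omega)⟩)
      (HomologicalComplex.homotopyCofiber.XIsoBiprod φ p (p + 1) rfl)
  have h := acyclic_Gam (C := CochainComplex.mappingCone φ) (a - 1) ((quasiIso_iff_acyclic_cone φ).1 inferInstance) hX
  exact fun p => (h p).of_iso (CochainComplex.mappingCone.mapHomologicalComplexIso φ (Gam Z))

end Groth.Agent.FibProper8
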