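import Groth.Agent.Lib.FibProper8.Stalk
import Groth.Agent.Lib.FibProper8.Map
import Groth.Agent.Lib.FibProper8.Soft
import Groth.Agent.Lib.FibDouble8.Core
import Groth.Agent.Lib.SheafVan16.ProperBC

/-!
# Stalks of the levels at a point with compact separated fibres
-/

set_option autoImplicit false
set_option backward.isDefEq.respectTransparency false
set_option backward.isDefEq.respectTransparency.types false
set_option maxHeartbeats 1000000

universe u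

open CategoryTheory CategoryTheory.Limits Opposite TopologicalSpace Pseudofunctor.CoGrothendieck FibDesc
open SimplexCategory
open scoped Simplicial
open Groth.Agent.FibSplit8 Groth.Agent.FibLocal8 Groth.Agent.SheafVan16 Groth.Agent.CohFound Groth.Agent.GodTot16

noncomputable section

namespace Groth.Agent.FibProper8

variable {Y' Y : (WithInitial SimplexCategory)ᵒᵖ ⥤ TopCat.{u}} (Φ : Y' ⟶ Y)

local notation "DS" => SimplexCategory

/-- Data of a fibre. -/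
structure IsFibre (pt : Y'.obj (bot DS)) : Prop where
  sub : ∀ x : Y'.obj (bot DS), x = pt
  nbhds : ∀ n : ℕ, IsNbhds (Φ.app (idx ⦋n⦌)) (preNbhd (epsMap Y (idx ⦋n⦌)) (Φ.app (bot DS) pt))
  sep : ∀ n : ℕ, PairSep (Φ.app (idx ⦋n⦌))
  cpt : ∀ n : ℕ, CompactSpace (Y'.obj (idx ⦋n⦌))

/-- Restriction to a level. -/
abbrev rsP (Z : (WithInitial DS)ᵒᵖ ⥤ TopCat.{u}) (n : ℕ) : PSh Z ⥤ CohTop.Ab (Z.obj (idx ⦋n⦌)) :=
  haveI : (ι (part (topAug Z)) (op ⦋n⦌)).IsContinuous (partTop (topAug Z) (topAugTop Z) (op ⦋n⦌))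
      (totPart (topAug Z) (topAugTop Z)) := FC16.FibTotal.ι_isContinuous (isPreFibSite_part Z) _
  (ι (part (topAug Z)) (op ⦋n⦌)).sheafPushforwardContinuous AddCommGrpCat.{u}
    (partTop (topAug Z) (topAugTop Z) (op ⦋n⦌)) (totPart (topAug Z) (topAugTop Z))

instance additive_rsP (Z : (WithInitial DS)ᵒᵖ ⥤ TopCat.{u}) (n : ℕ) : (rsP Z n).Additive where

theorem isFlasque_rsP {Z : (WithInitial DS)ᵒᵖ ⥤ TopCat.{u}} (n : ℕ) (M : PSh Z) [Injective M] :
    TopCat.Sheaf.IsFlasque ((rsP Z n).obj M) := by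
  refine ⟨fun {U V} i => (AddCommGrpCat.epi_iff_surjective _).2 fun x => ?_⟩
  obtain ⟨w, hw⟩ := surjective_restr M (i := op ⦋n⦌) (V := V.unop) (W := U.unop) (leOfHom i.unop) x
  exact ⟨w, hw⟩

variable {Φ} {pt : Y'.obj (bot DS)} (hF : IsFibre Φ pt)
include hF

theorem top_le (n : ℕ) {U : Opens (Y.obj (bot DS))} (hU : Φ.app (bot DS) pt ∈ U) :
    (⊤ : Opens (Y'.obj (idx ⦋n⦌))) ≤ (Opens.map (Φ.app (idx ⦋n⦌))).obj (lev Y U ⦋n⦌) := fun z _ =>
  (hF.nbhds n).mem (op (lev Y U ⦋n⦌)) ⟨U, hU, rfl⟩ z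

/-- The inclusion of the full level. -/
def topArr (n : ℕ) {U : Opens (Y.obj (bot DS))} (hU : Φ.app (bot DS) pt ∈ U) :
    pb Y' ⊤ ⦋n⦌ ⟶ (ImP Φ).obj (pb Y U ⦋n⦌) :=
  homMkPart (a := pb Y' ⊤ ⦋n⦌) (b := (ImP Φ).obj (pb Y U ⦋n⦌)) (𝟙 _) (fun z _ => by
    change z ∈ (Opens.map (Y'.map ((toAug DS).map (𝟙 (op ⦋n⦌))))).obj _
    rw [(toAug DS).map_id, map_id_obj]
    exact top_le hF n hU trivial)

theorem topArr_bij (n : ℕ) {U : Opens (Y.obj (bot DS))} (hU : Φ.app (bot DS) pt ∈ U) : IsIso (topArr hF n hU) :=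
  ⟨homMkPart (a := (ImP Φ).obj (pb Y U ⦋n⦌)) (b := pb Y' ⊤ ⦋n⦌) (𝟙 _) (fun z _ => by
      change z ∈ (Opens.map (Y'.map ((toAug DS).map (𝟙 (op ⦋n⦌))))).obj _
      rw [(toAug DS).map_id, map_id_obj]
      exact trivial),
    hom_ext_part (Category.id_comp _), hom_ext_part (Category.id_comp _)⟩

/-- The cocone computing the stalk of a level of a direct image. -/
def chiCocone (n : ℕ) (M : PSh Y') :
    Cocone ((OpenNhds.inclusion (Φ.app (bot DS) pt)).op ⋙ (row Y n).obj ((PΦ Φ).obj M)) :=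
  Cocone.mk (val M ⊤ n)
    { app := fun V => M.obj.map (topArr hF n V.unop.2).op
      naturality := fun V W g => by
        refine ((M.obj.map_comp _ _).symm.trans ?_).trans (Category.comp_id _).symm
        exact congrArg M.obj.map (Quiver.Hom.unop_inj (hom_ext_part (Category.id_comp _))) }

/-- The stalk of a level of a direct image. -/
def chiHom (n : ℕ) (M : PSh Y') :
    (Tn Y (Φ.app (bot DS) pt) n).obj ((PΦ Φ).obj M) ⟶ val M ⊤ n :=
  colimit.desc _ (chiCocone hF n M)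

theorem chiHom_germ (n : ℕ) (M : PSh Y') {U : Opens (Y.obj (bot DS))} (hU : Φ.app (bot DS) pt ∈ U)
    (x : val ((PΦ Φ).obj M) U n) :
    chiHom hF n M (TopCat.Presheaf.germ ((row Y n).obj ((PΦ Φ).obj M)) U _ hU x) =
      M.obj.map (topArr hF n hU).op x :=
  ConcreteCategory.congr_hom (colimit.ι_desc (chiCocone hF n M) (op (⟨U, hU⟩ : OpenNhds (Φ.app (bot DS) pt)))) x

instance isIso_chiHom (n : ℕ) (M : PSh Y') : IsIso (chiHom hF n M) := by
  rw [ConcreteCategory.isIso_iff_bijective]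
  refine ⟨(injective_iff_map_eq_zero (chiHom hF n M).hom).2 fun a ha => ?_, fun y => ?_⟩
  · obtain ⟨U, hU, x, rfl⟩ := exists_germ_Tn ((PΦ Φ).obj M) a
    have e : M.obj.map (topArr hF n hU).op x = 0 := (chiHom_germ hF n M hU x).symm.trans ha
    haveI := topArr_bij hF n hU
    have : Function.Injective (M.obj.map (topArr hF n hU).op) :=
      (ConcreteCategory.bijective_of_isIso _).1
    rw [this (e.trans (map_zero _).symm)]
    exact map_zero _
  · haveI := topArr_bij hF n (U := ⊤) trivial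
    obtain ⟨x, rfl⟩ := (ConcreteCategory.bijective_of_isIso (M.obj.map (topArr hF n (U := ⊤) trivial).op)).2 y
    exact ⟨_, chiHom_germ hF n M (U := ⊤) trivial x⟩

theorem chiHom_dT (n : ℕ) (M : PSh Y') :
    (dT Y (Φ.app (bot DS) pt) n).app ((PΦ Φ).obj M) ≫ chiHom hF (n + 1) M = chiHom hF n M ≫ dv M ⊤ n := by
  refine AddCommGrpCat.hom_ext (AddMonoidHom.ext fun a => ?_)
  obtain ⟨U, hU, x, rfl⟩ := exists_germ_Tn ((PΦ Φ).obj M) a
  change chiHom hF (n + 1) M ((dT Y _ n).app _ _) = dv M ⊤ n (chiHom hF n M _)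
  rw [dT_germ, chiHom_germ, chiHom_germ, dv_apply, dv_apply, map_sum]
  refine Finset.sum_congr rfl fun i _ => ?_
  rw [map_zsmul]
  refine congrArg (_ • ·) ?_
  refine (ConcreteCategory.congr_hom (M.obj.map_comp _ _) x).symm.trans
    (Eq.trans ?_ (ConcreteCategory.congr_hom (M.obj.map_comp _ _) x))
  refine congrArg (fun t => M.obj.map t x) (Quiver.Hom.unop_inj (hom_ext_part ?_))
  exact (Category.id_comp _).trans (Category.comp_id _).symm

theorem chiHom_naturality (n : ℕ) {M N : PSh Y'} (φ : M ⟶ N) :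
    (Tn Y (Φ.app (bot DS) pt) n).map ((PΦ Φ).map φ) ≫ chiHom hF n N =
      chiHom hF n M ≫ φ.hom.app (op (pb Y' ⊤ ⦋n⦌)) := by
  refine AddCommGrpCat.hom_ext (AddMonoidHom.ext fun a => ?_)
  obtain ⟨U, hU, x, rfl⟩ := exists_germ_Tn ((PΦ Φ).obj M) a
  change chiHom hF n N ((Tn Y _ n).map _ _) = φ.hom.app _ (chiHom hF n M _)
  rw [chiHom_germ]
  erw [TopCat.Presheaf.stalkFunctor_map_germ_apply U _ hU ((row Y n).map ((PΦ Φ).map φ)) x]
  rw [chiHom_germ]
  exact (NatTrans.naturality_apply φ.hom (topArr hF n hU).op x).symm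

/-- The cocone computing the stalk of a level. -/
def omCocone (n : ℕ) (M : PSh Y) :
    Cocone ((OpenNhds.inclusion (Φ.app (bot DS) pt)).op ⋙ (row Y n).obj M) :=
  Cocone.mk ((Gam _).obj ((CohTop.pull (Φ.app (idx ⦋n⦌))).obj ((rsP Y n).obj M)))
    { app := fun V =>
        ((TopCat.Sheaf.pullbackPushforwardAdjunction AddCommGrpCat.{u} (Φ.app (idx ⦋n⦌))).unit.app
          ((rsP Y n).obj M)).hom.app (op (lev Y V.unop.1 ⦋n⦌)) ≫
          ((CohTop.pull (Φ.app (idx ⦋n⦌))).obj ((rsP Y n).obj M)).obj.map (homOfLE (top_le hF n V.unop.2)).op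
      naturality := fun V W g => by
        refine Eq.trans ?_ (Category.comp_id _).symm
        let P := (CohTop.pull (Φ.app (idx ⦋n⦌))).obj ((rsP Y n).obj M)
        let η := ((TopCat.Sheaf.pullbackPushforwardAdjunction AddCommGrpCat.{u} (Φ.app (idx ⦋n⦌))).unit.app
          ((rsP Y n).obj M)).hom
        change ((rsP Y n).obj M).obj.map ((Opens.map (epsMap Y (idx ⦋n⦌))).map ((OpenNhds.inclusion _).map g.unop)).op ≫
          η.app _ ≫ P.obj.map _ = η.app _ ≫ P.obj.map _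
        rw [← Category.assoc]
        refine (congrArg (· ≫ _) (η.naturality _)).trans ?_
        rw [Category.assoc]
        refine congrArg (η.app _ ≫ ·) ?_
        exact (P.obj.map_comp _ _).symm }

/-- The stalk of a level. -/
def omHom (n : ℕ) (M : PSh Y) :
    (Tn Y (Φ.app (bot DS) pt) n).obj M ⟶
      (Gam _).obj ((CohTop.pull (Φ.app (idx ⦋n⦌))).obj ((rsP Y n).obj M)) :=
  colimit.desc _ (omCocone hF n M)

theorem omHom_germ (n : ℕ) (M : PSh Y) {U : Opens (Y.obj (bot DS))} (hU : Φ.app (bot DS) pt ∈ U)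
    (x : val M U n) :
    omHom hF n M (TopCat.Presheaf.germ ((row Y n).obj M) U _ hU x) =
      ((CohTop.pull (Φ.app (idx ⦋n⦌))).obj ((rsP Y n).obj M)).obj.map (homOfLE (top_le hF n hU)).op
        (unitSec (Φ.app (idx ⦋n⦌)) ((rsP Y n).obj M) (U := lev Y U ⦋n⦌) x) :=
  ConcreteCategory.congr_hom (colimit.ι_desc (omCocone hF n M) (op (⟨U, hU⟩ : OpenNhds (Φ.app (bot DS) pt)))) x

theorem germ_omHom (n : ℕ) (M : PSh Y) {U : Opens (Y.obj (bot DS))} (hU : Φ.app (bot DS) pt ∈ U)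
    (x : val M U n) (z : Y'.obj (idx ⦋n⦌)) :
    germ ((CohTop.pull (Φ.app (idx ⦋n⦌))).obj ((rsP Y n).obj M)) z (Set.mem_univ z : z ∈ (⊤ : Opens _))
        (omHom hF n M (TopCat.Presheaf.germ ((row Y n).obj M) U _ hU x)) =
      σ (Φ.app (idx ⦋n⦌)) ((rsP Y n).obj M) z
        (germ ((rsP Y n).obj M) _ ((hF.nbhds n).mem (op (lev Y U ⦋n⦌)) ⟨U, hU, rfl⟩ z) x) := by
  rw [omHom_germ]
  exact (germ_map (top_le hF n hU) z trivial _).trans (σ_germ (Φ.app (idx ⦋n⦌)) ((rsP Y n).obj M) (U := lev Y U ⦋n⦌) x z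
    ((hF.nbhds n).mem (op (lev Y U ⦋n⦌)) ⟨U, hU, rfl⟩ z)).symm

instance isIso_omHom (n : ℕ) (M : PSh Y) : IsIso (omHom hF n M) := by
  haveI := hF.cpt n
  rw [ConcreteCategory.isIso_iff_bijective]
  refine ⟨(injective_iff_map_eq_zero (omHom hF n M).hom).2 fun a ha => ?_, fun y => ?_⟩
  · obtain ⟨U, hU, x, rfl⟩ := exists_germ_Tn M a
    obtain ⟨A, -, hzA, hA⟩ := exists_open_zero (Φ.app (idx ⦋n⦌)) ((rsP Y n).obj M) (U := lev Y U ⦋n⦌) x fun z =>
      ⟨(hF.nbhds n).mem (op (lev Y U ⦋n⦌)) ⟨U, hU, rfl⟩ z,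
        (germ_omHom hF n M hU x z).symm.trans ((congrArg _ ha).trans (map_zero _))⟩
    obtain ⟨W, ⟨V, hV, hW⟩, hWA⟩ := (hF.nbhds n).shrink A hzA
    refine (TopCat.Presheaf.germ_res_apply ((row Y n).obj M) (homOfLE (inf_le_left : U ⊓ V ≤ U)) _ ⟨hU, hV⟩ x).symm.trans ?_
    refine (congrArg _ ?_).trans (map_zero _)
    exact hA (lev Y (U ⊓ V) ⦋n⦌) (Set.preimage_mono inf_le_left)
      (le_trans (Set.preimage_mono inf_le_right : lev Y (U ⊓ V) ⦋n⦌ ≤ lev Y V ⦋n⦌) ((le_of_eq hW.symm).trans hWA))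
  · obtain ⟨W, t, ht⟩ := exists_rel ((rsP Y n).obj M) (hF.sep n) (O := ⊤) isCompact_univ (fun z _ => trivial) y
    obtain ⟨W', ⟨V, hV, hW'⟩, hWW⟩ := (hF.nbhds n).shrink W fun z => (ht z trivial).2.1
    have hle : lev Y V ⦋n⦌ ≤ W := (le_of_eq hW'.symm).trans hWW
    refine ⟨TopCat.Presheaf.germ ((row Y n).obj M) V _ hV (((rsP Y n).obj M).obj.map (homOfLE hle).op t), ?_⟩
    refine TopCat.Presheaf.section_ext ((CohTop.pull (Φ.app (idx ⦋n⦌))).obj ((rsP Y n).obj M)) _ _ _ fun z hz => ?_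
    refine (germ_omHom hF n M hV _ z).trans ?_
    obtain ⟨h1, h2, e⟩ := ht z trivial
    exact (congrArg _ (germ_map hle _ _ t)).trans e.symm

theorem omHom_naturality (n : ℕ) {M N : PSh Y} (φ : M ⟶ N) :
    (Tn Y (Φ.app (bot DS) pt) n).map φ ≫ omHom hF n N =
      omHom hF n M ≫ (Gam _).map ((CohTop.pull (Φ.app (idx ⦋n⦌))).map ((rsP Y n).map φ)) := by
  refine AddCommGrpCat.hom_ext (AddMonoidHom.ext fun a => ?_)
  obtain ⟨U, hU, x, rfl⟩ := exists_germ_Tn M a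
  change omHom hF n N ((Tn Y _ n).map φ _) = ((Gam _).map _) (omHom hF n M _)
  erw [TopCat.Presheaf.stalkFunctor_map_germ_apply U _ hU ((row Y n).map φ) x]
  rw [omHom_germ, omHom_germ]
  refine Eq.trans ?_ (NatTrans.naturality_apply ((CohTop.pull (Φ.app (idx ⦋n⦌))).map ((rsP Y n).map φ)).hom _ _).symm
  refine congrArg (((CohTop.pull (Φ.app (idx ⦋n⦌))).obj ((rsP Y n).obj N)).obj.map _) ?_
  exact congrArg (fun ψ => (ψ.hom.app (op (lev Y U ⦋n⦌))) x)
    ((TopCat.Sheaf.pullbackPushforwardAdjunction AddCommGrpCat.{u} (Φ.app (idx ⦋n⦌))).unit.naturality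
      ((rsP Y n).map φ))

omit hF in
/-- Direct image commutes with restriction to a level. -/
def cmpN (n : ℕ) : rsP Y' n ⋙ CohTop.push (Φ.app (idx ⦋n⦌)) ≅ PΦ Φ ⋙ rsP Y n :=
  NatIso.ofComponents (fun M => (fullyFaithfulSheafToPresheaf _ _).preimageIso
    (NatIso.ofComponents (fun U => Iso.refl _) fun g => by
      change M.obj.map _ ≫ 𝟙 _ = 𝟙 _ ≫ M.obj.map _
      rw [Category.comp_id, Category.id_comp]
      exact congrArg M.obj.map (Quiver.Hom.unop_inj (hom_ext_part rfl))))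
    fun φ => by
      apply Sheaf.hom_ext
      ext U : 2
      change _ ≫ 𝟙 _ = 𝟙 _ ≫ _
      rw [Category.comp_id, Category.id_comp]
      rfl

omit hF in
/-- The map of a level induced by a map to a direct image. -/
def lift' (n : ℕ) {M : PSh Y} {M' : PSh Y'} (θ : M ⟶ (PΦ Φ).obj M') :
    (CohTop.pull (Φ.app (idx ⦋n⦌))).obj ((rsP Y n).obj M) ⟶ (rsP Y' n).obj M' :=
  ((TopCat.Sheaf.pullbackPushforwardAdjunction AddCommGrpCat.{u} (Φ.app (idx ⦋n⦌))).homEquiv _ _).symm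
    ((rsP Y n).map θ ≫ (cmpN n).inv.app M')

theorem chi_om (n : ℕ) {M : PSh Y} {M' : PSh Y'} (θ : M ⟶ (PΦ Φ).obj M') :
    (Tn Y (Φ.app (bot DS) pt) n).map θ ≫ chiHom hF n M' = omHom hF n M ≫ (lift' n θ).hom.app (op ⊤) ≫
      M'.obj.map (eqToHom (C := ∫ᶜ (part (topAug Y')))
        (rfl : pb Y' ⊤ ⦋n⦌ = mkObjPart Y' (op ⦋n⦌) ((Opens.map (epsMap Y' (idx ⦋n⦌))).obj ⊤))).op := by
  refine AddCommGrpCat.hom_ext (AddMonoidHom.ext fun a => ?_)
  obtain ⟨U, hU, x, rfl⟩ := exists_germ_Tn M a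
  change chiHom hF n M' ((Tn Y _ n).map θ _) = M'.obj.map _ ((lift' n θ).hom.app (op ⊤) (omHom hF n M _))
  erw [TopCat.Presheaf.stalkFunctor_map_germ_apply U _ hU ((row Y n).map θ) x]
  rw [chiHom_germ, omHom_germ]
  have e : (TopCat.Sheaf.pullbackPushforwardAdjunction AddCommGrpCat.{u} (Φ.app (idx ⦋n⦌))).unit.app _ ≫
      (CohTop.push (Φ.app (idx ⦋n⦌))).map (lift' n θ) = (rsP Y n).map θ ≫ (cmpN n).inv.app M' :=
    ((Adjunction.homEquiv_unit _ _ _ _).symm.trans (Equiv.apply_symm_apply _ _))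
  have e' : (lift' n θ).hom.app (op ((Opens.map (Φ.app (idx ⦋n⦌))).obj (lev Y U ⦋n⦌)))
      (unitSec (Φ.app (idx ⦋n⦌)) ((rsP Y n).obj M) (U := lev Y U ⦋n⦌) x) =
        θ.hom.app (op (pb Y U ⦋n⦌)) x :=
    congrArg (fun ψ => (ψ.hom.app (op (lev Y U ⦋n⦌))) x) e
  refine Eq.symm ((congrArg (M'.obj.map _) ((NatTrans.naturality_apply (lift' n θ).hom _ _).trans
    (congrArg _ e'))).trans ?_)
  refine (ConcreteCategory.congr_hom (M'.obj.map_comp _ _) _).symm.trans ?_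
  exact congrArg (fun t => M'.obj.map t _) (Quiver.Hom.unop_inj (hom_ext_part (Category.id_comp _)))

end Groth.Agent.FibProper8
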