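import Groth.Agent.Lib.FibSplit8.Maps
import Groth.Agent.Lib.FibLocal8.Restrict
import Mathlib.AlgebraicTopology.AlternatingFaceMapComplex
import Mathlib.CategoryTheory.Sites.Abelian

/-!
# Sections of injective sheaves on an augmented simplicial space: the augmented cosimplicial resolution
-/

set_option autoImplicit false
set_option backward.isDefEq.respectTransparency false
set_option backward.isDefEq.respectTransparency.types false
set_option maxHeartbeats 1000000

universe u

open CategoryTheory CategoryTheory.Limits Opposite TopologicalSpace Pseudofunctor.CoGrothendieck FibDesc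
open SimplexCategory
open scoped Simplicial
open Groth.Agent.FibSplit8 Groth.Agent.FibLocal8

noncomputable section

namespace Groth.Agent.FibProper8

variable (Y : (WithInitial SimplexCategory)ᵒᵖ ⥤ TopCat.{u})

local notation "DS" => SimplexCategory

/-- The augmented index of a simplicial degree. -/
abbrev idx (m : DS) : (WithInitial DS)ᵒᵖ := (toAug DS).obj (op m)

/-- The preimage of an open subset of the base in degree `m`. -/
abbrev lev (U : Opens (Y.obj (bot DS))) (m : DS) : Opens (Y.obj (idx m)) := (Opens.map (epsMap Y (idx m))).obj U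

/-- The object of the part over the preimage. -/
abbrev pb (U : Opens (Y.obj (bot DS))) (m : DS) : ∫ᶜ (part (topAug Y)) := mkObjPart Y (op m) (lev Y U m)

theorem preimage_lev (U : Opens (Y.obj (bot DS))) {n m : DS} (g : n ⟶ m) :
    (Opens.map (Y.map ((toAug DS).map g.op))).obj (lev Y U n) = lev Y U m := by
  rw [lev, lev, ← Opens.map_comp_obj, Groth.Agent.FibSplit8.map_epsMap]

/-- The transition maps between the preimages. -/
def cof (U : Opens (Y.obj (bot DS))) {n m : DS} (g : n ⟶ m) : pb Y U m ⟶ pb Y U n :=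
  homMkPart (a := pb Y U m) (b := pb Y U n) g.op (le_of_eq (preimage_lev Y U g).symm)

@[simp] theorem cof_base (U : Opens (Y.obj (bot DS))) {n m : DS} (g : n ⟶ m) : (cof Y U g).base = g.op := rfl

/-- The cosimplicial object of preimages. -/
def lvl (U : Opens (Y.obj (bot DS))) : DS ⥤ (∫ᶜ (part (topAug Y)))ᵒᵖ where
  obj m := op (pb Y U m)
  map g := (cof Y U g).op
  map_id _ := Quiver.Hom.unop_inj (hom_ext_part rfl)
  map_comp _ _ := Quiver.Hom.unop_inj (hom_ext_part rfl)

/-- An object lies over the open subset `U`. -/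
def Over' (U : Opens (Y.obj (bot DS))) (X : ∫ᶜ (part (topAug Y))) : Prop :=
  @LE.le (Opens (Y.obj ((toAug DS).obj X.base))) _ X.fiber (lev Y U X.base.unop)

/-- The arrow to a preimage attached to a simplex. -/
def toPb {U : Opens (Y.obj (bot DS))} {X : ∫ᶜ (part (topAug Y))} (hX : Over' Y U X) {n : DS}
    (v : n ⟶ X.base.unop) : X ⟶ pb Y U n :=
  homMkPart (a := X) (b := pb Y U n) v.op (le_trans hX (le_of_eq (preimage_lev Y U v).symm))

theorem over_of_hom {U : Opens (Y.obj (bot DS))} {X : ∫ᶜ (part (topAug Y))} {n : DS} (g : X ⟶ pb Y U n) :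
    Over' Y U X :=
  le_trans (leOfHom (X := Opens (Y.obj ((toAug DS).obj X.base))) g.fiber) (le_of_eq (preimage_lev Y U g.base.unop))

theorem hom_eq_toPb {U : Opens (Y.obj (bot DS))} {X : ∫ᶜ (part (topAug Y))} {n : DS} (g : X ⟶ pb Y U n) :
    g = toPb Y (over_of_hom Y g) g.base.unop :=
  hom_ext_part rfl

theorem toPb_cof {U : Opens (Y.obj (bot DS))} {X : ∫ᶜ (part (topAug Y))} (hX : Over' Y U X) {n m : DS}
    (v : m ⟶ X.base.unop) (g : n ⟶ m) : toPb Y hX v ≫ cof Y U g = toPb Y hX (g ≫ v) :=
  hom_ext_part rfl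

/-- A simplex with the first vertex prepended. -/
def prep {n : ℕ} {x : DS} (v : ⦋n⦌ ⟶ x) : ⦋n + 1⦌ ⟶ x :=
  SimplexCategory.Hom.mk
    { toFun := Fin.cons 0 v.toOrderHom
      monotone' := fun a b h => by
        refine Fin.cases ?_ (fun a' => ?_) a h
        · intro _; simp
        · intro h'
          obtain ⟨b', rfl⟩ : ∃ b', b = Fin.succ b' := Fin.exists_succ_eq.2 (fun hb => by
            subst hb; simp at h') |>.imp fun _ => Eq.symm
          simpa using v.toOrderHom.monotone (Fin.succ_le_succ_iff.1 h') }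

theorem δ_zero_prep {n : ℕ} {x : DS} (v : ⦋n⦌ ⟶ x) : δ 0 ≫ prep v = v := by
  refine SimplexCategory.Hom.ext _ _ (OrderHom.ext _ _ (funext fun a => ?_))
  change (Fin.cons 0 v.toOrderHom : Fin (n + 2) → _) ((0 : Fin (n + 2)).succAbove a) = v.toOrderHom a
  simp

theorem δ_succ_prep {n : ℕ} {x : DS} (v : ⦋n + 1⦌ ⟶ x) (i : Fin (n + 2)) :
    δ i.succ ≫ prep v = prep (δ i ≫ v) := by
  refine SimplexCategory.Hom.ext _ _ (OrderHom.ext _ _ (funext fun a => ?_))
  change (Fin.cons 0 v.toOrderHom : Fin (n + 3) → _) (i.succ.succAbove a) =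
    (Fin.cons 0 (δ i ≫ v).toOrderHom : Fin (n + 2) → _) a
  refine Fin.cases ?_ (fun a' => ?_) a
  · simp
  · rw [Fin.succ_succAbove_succ, Fin.cons_succ, Fin.cons_succ]
    rfl

section Exact

variable {Y} (M : PSh Y) {U : Opens (Y.obj (bot DS))}

/-- The values at the preimages. -/
abbrev val (U : Opens (Y.obj (bot DS))) (n : ℕ) : AddCommGrpCat.{u} := M.obj.obj (op (pb Y U ⦋n⦌))

/-- The differential. -/
abbrev dv (U : Opens (Y.obj (bot DS))) (n : ℕ) : val M U n ⟶ val M U (n + 1) :=
  AlgebraicTopology.AlternatingCofaceMapComplex.objD (lvl Y U ⋙ M.obj) n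

theorem sum_zsmul_apply {A B : AddCommGrpCat.{u}} {κ : Type} [Fintype κ] (f : κ → (A ⟶ B)) (c : κ → ℤ) (x : A) :
    (∑ i, c i • f i) x = ∑ i, c i • f i x := by
  classical
  have h : ∀ s : Finset κ, (∑ i ∈ s, c i • f i) x = ∑ i ∈ s, c i • f i x := fun s => by
    induction s using Finset.induction_on with
    | empty => rfl
    | insert a s ha ih =>
      rw [Finset.sum_insert ha, Finset.sum_insert ha, ← ih]
      rfl
  exact h _

theorem dv_apply (n : ℕ) (x : val M U n) :
    dv M U n x = ∑ i : Fin (n + 2), (-1 : ℤ) ^ (i : ℕ) • M.obj.map (cof Y U (δ i)).op x :=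
  sum_zsmul_apply _ _ x

theorem dv_dv (n : ℕ) (x : val M U n) : dv M U (n + 1) (dv M U n x) = 0 :=
  ConcreteCategory.congr_hom (AlgebraicTopology.AlternatingCofaceMapComplex.d_squared (lvl Y U ⋙ M.obj) n) x

/-- All values. -/
def godE : (∫ᶜ (part (topAug Y)))ᵒᵖ ⥤ AddCommGrpCat.{u} where
  obj Z := AddCommGrpCat.of (∀ X : ∫ᶜ (part (topAug Y)), (X ⟶ Z.unop) → M.obj.obj (op X))
  map {Z Z'} f := AddCommGrpCat.ofHom
    { toFun := fun e X g => e X (g ≫ f.unop)
      map_zero' := rfl
      map_add' := fun _ _ => rfl }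
  map_id Z := by
    refine AddCommGrpCat.hom_ext (AddMonoidHom.ext fun e => ?_)
    exact funext fun X => funext fun g => congrArg (e X) (Category.comp_id g)
  map_comp f f' := by
    refine AddCommGrpCat.hom_ext (AddMonoidHom.ext fun e => ?_)
    exact funext fun X => funext fun g => congrArg (e X) (Category.assoc _ _ _).symm

/-- The unit to all values. -/
def godη : M.obj ⟶ godE M where
  app Z := AddCommGrpCat.ofHom
    { toFun := fun x X g => M.obj.map g.op x
      map_zero' := by funext X g; exact map_zero _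
      map_add' := fun x y => by funext X g; exact map_add _ x y }
  naturality Z Z' f := by
    ext x; funext X g
    change M.obj.map g.op (M.obj.map f x) = M.obj.map (g ≫ f.unop).op x
    rw [op_comp, Functor.map_comp]
    rfl

instance mono_godη : Mono (godη M) := by
  haveI : ∀ Z, Mono ((godη M).app Z) := fun Z => by
    refine (AddCommGrpCat.mono_iff_injective _).2 fun x y h => ?_
    have h' : M.obj.map (𝟙 Z.unop).op x = M.obj.map (𝟙 Z.unop).op y := congrFun (congrFun h Z.unop) (𝟙 _)
    rwa [op_id, M.obj.map_id] at h'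
  exact NatTrans.mono_of_mono_app _

variable [Injective M]

instance injective_obj : Injective M.obj :=
  Injective.injective_of_adjoint (sheafificationAdjunction (totPart (topAug Y) (topAugTop Y)) AddCommGrpCat.{u}) M

/-- A retraction of all values. -/
def godR : godE M ⟶ M.obj := Injective.factorThru (𝟙 _) (godη M)

theorem godR_η (Z : (∫ᶜ (part (topAug Y)))ᵒᵖ) (x : M.obj.obj Z) :
    (godR M).app Z ((godη M).app Z x) = x :=
  ConcreteCategory.congr_hom (congrArg (fun φ => φ.app Z) (Injective.comp_factorThru (𝟙 _) (godη M))) x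

/-- A cocycle in positive degree is a coboundary. -/
theorem exists_dv (n : ℕ) (c : val M U (n + 1)) (hc : dv M U (n + 1) c = 0) : ∃ b, dv M U n b = c := by
  let e : (godE M).obj (op (pb Y U ⦋n⦌)) := fun X g =>
    M.obj.map (toPb Y (over_of_hom Y g) (prep g.base.unop)).op c
  refine ⟨(godR M).app _ e, ?_⟩
  have hnat : ∀ i : Fin (n + 2), M.obj.map (cof Y U (δ i)).op ((godR M).app _ e) =
      (godR M).app _ ((godE M).map (cof Y U (δ i)).op e) := fun i =>
    (NatTrans.naturality_apply (godR M) (cof Y U (δ i)).op e).symm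
  rw [dv_apply]
  simp only [hnat, ← map_zsmul, ← map_sum]
  refine Eq.trans ?_ (godR_η M _ c)
  refine congrArg ((godR M).app _) (funext fun X => funext fun g => ?_)
  rw [Finset.sum_apply, Finset.sum_apply]
  simp only [Pi.smul_apply]
  change ∑ i : Fin (n + 2), (-1 : ℤ) ^ (i : ℕ) •
      M.obj.map (toPb Y (over_of_hom Y (g ≫ cof Y U (δ i))) (prep (g ≫ cof Y U (δ i)).base.unop)).op c =
    M.obj.map g.op c
  have h : M.obj.map (toPb Y (over_of_hom Y g) (prep g.base.unop)).op (dv M U (n + 1) c) = 0 := by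
    rw [hc, map_zero]
  rw [dv_apply, map_sum, Fin.sum_univ_succ] at h
  simp only [map_zsmul, Fin.val_zero, pow_zero, one_smul, Fin.val_succ, pow_succ, mul_neg, mul_one, neg_smul,
    Finset.sum_neg_distrib, ← ConcreteCategory.comp_apply, ← Functor.map_comp, ← op_comp, toPb_cof,
    δ_zero_prep, δ_succ_prep] at h
  rw [← hom_eq_toPb] at h
  simp only [map_neg, map_zsmul, Finset.sum_neg_distrib, ← ConcreteCategory.comp_apply, ← Functor.map_comp, ← op_comp,
    toPb_cof, δ_succ_prep] at h
  rw [← sub_eq_add_neg, sub_eq_zero] at h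
  refine Eq.trans ?_ h.symm
  refine Finset.sum_congr rfl fun i _ => ?_
  rfl

/-- The restriction maps of an injective sheaf are surjective on each level. -/
theorem surjective_restr {i : DSᵒᵖ} {V W : Opens (Y.obj ((toAug DS).obj i))} (h : V ≤ W)
    (x : M.obj.obj (op (mkObjPart Y i V))) :
    ∃ w : M.obj.obj (op (mkObjPart Y i W)),
      M.obj.map ((ι (part (topAug Y)) i).map (homOfLE (X := Opens (Y.obj ((toAug DS).obj i))) h)).op w = x := by
  classical
  let a := (ι (part (topAug Y)) i).map (homOfLE (X := Opens (Y.obj ((toAug DS).obj i))) h)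
  let e : (godE M).obj (op (mkObjPart Y i W)) := fun X g =>
    if hg : ∃ g' : X ⟶ mkObjPart Y i V, g' ≫ a = g then M.obj.map hg.choose.op x else 0
  refine ⟨(godR M).app _ e, ?_⟩
  refine ((NatTrans.naturality_apply (godR M) a.op e).symm.trans ?_).trans (godR_η M _ x)
  refine congrArg ((godR M).app _) (funext fun X => funext fun g => ?_)
  change e X (g ≫ a) = M.obj.map g.op x
  have hg : ∃ g' : X ⟶ mkObjPart Y i V, g' ≫ a = g ≫ a := ⟨g, rfl⟩
  change dite _ _ _ = _
  rw [dif_pos hg]
  have e1 := congrArg Pseudofunctor.CoGrothendieck.Hom.base hg.choose_spec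
  rw [show hg.choose = g from hom_ext_part ((Category.comp_id _).symm.trans (e1.trans (Category.comp_id _)))]

end Exact

section Base

variable {Y} (U : Opens (Y.obj (bot DS)))

/-- Evaluation in degree zero of the direct image. -/
def iota (M : PSh Y) : ((push (topAug Y) (topAugTop Y) AddCommGrpCat.{u}).obj M).obj.obj (op U) ⟶ val M U 0 :=
  ((ccR Y).obj M).obj.map (toBot Y (idx ⦋0⦌) U).op ≫ ((adjR Y).counit.app M).hom.app (op (pb Y U ⦋0⦌))

variable (M : PSh Y)

/-- The cone of the direct image. -/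
abbrev pushCone : Cone (StructuredArrow.proj (op (mkObj Y (bot DS) U)) (incl (topAug Y)).op ⋙ M.obj) :=
  (Functor.RightExtension.mk _ ((incl (topAug Y)).op.ranCounit.app M.obj)).coneAt (op (mkObj Y (bot DS) U))

/-- The initial arrows. -/
def arr (m : DS) : StructuredArrow (op (mkObj Y (bot DS) U)) (incl (topAug Y)).op :=
  StructuredArrow.mk (Y := op (pb Y U m)) (toBot Y (idx m) U).op

theorem over_arrow (a : StructuredArrow (op (mkObj Y (bot DS) U)) (incl (topAug Y)).op) :
    Over' Y U a.right.unop := by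
  have h := hom_le Y a.hom.unop
  rw [botTerminal.hom_ext a.hom.unop.base (botTerminal.from _)] at h
  exact h

/-- A vertex gives a map of arrows. -/
def vert (a : StructuredArrow (op (mkObj Y (bot DS) U)) (incl (topAug Y)).op) {m : DS}
    (v : m ⟶ a.right.unop.base.unop) : arr U m ⟶ a :=
  StructuredArrow.homMk (toPb Y (over_arrow U a) v).op (Quiver.Hom.unop_inj (hom_ext Y (botTerminal.hom_ext _ _)))

theorem iota_eq_leg (y : ((push (topAug Y) (topAugTop Y) AddCommGrpCat.{u}).obj M).obj.obj (op U)) :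
    iota U M y = (pushCone U M).π.app (arr U ⦋0⦌) y := by
  have hcounit : ((adjR Y).counit.app M).hom = (incl (topAug Y)).op.ranCounit.app M.obj := by
    rw [Functor.sheafAdjunctionCocontinuous_counit_app_hom, Functor.ranAdjunction_counit]
  rw [iota, hcounit]
  rfl

/-- The vertex map from the point. -/
abbrev vtx (x : DS) : ⦋0⦌ ⟶ x := SimplexCategory.const ⦋0⦌ x 0

theorem iota_injective : Function.Injective (iota U M) := by
  intro y y' h
  rw [iota_eq_leg, iota_eq_leg] at h
  have hc := isLimitOfPreserves (forget AddCommGrpCat.{u})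
    (Functor.isPointwiseRightKanExtensionRanCounit (incl (topAug Y)).op M.obj (op (mkObj Y (bot DS) U)))
  refine (Types.isLimitEquivSections hc).injective (Subtype.ext (funext fun a => ?_))
  change (pushCone U M).π.app a y = (pushCone U M).π.app a y'
  rw [← (pushCone U M).w (vert U a (vtx a.right.unop.base.unop))]
  exact congrArg ((StructuredArrow.proj (op (mkObj Y (bot DS) U)) (incl (topAug Y)).op ⋙ M.obj).map
    (vert U a (vtx a.right.unop.base.unop))) h

theorem dv_iota (y : ((push (topAug Y) (topAugTop Y) AddCommGrpCat.{u}).obj M).obj.obj (op U)) :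
    dv M U 0 (iota U M y) = 0 := by
  rw [dv_apply, iota_eq_leg, Fin.sum_univ_two]
  have h : ∀ i : Fin 2, M.obj.map (cof Y U (δ i)).op ((pushCone U M).π.app (arr U ⦋0⦌) y) =
      (pushCone U M).π.app (arr U ⦋1⦌) y := fun i => by
    rw [← (pushCone U M).w (StructuredArrow.homMk (cof Y U (δ i)).op
      (Quiver.Hom.unop_inj (hom_ext Y (botTerminal.hom_ext _ _))) : arr U ⦋0⦌ ⟶ arr U ⦋1⦌)]
    rfl
  rw [h, h]
  simp

theorem exists_iota (x : val M U 0) (hx : dv M U 0 x = 0) : ∃ y, iota U M y = x := by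
  rw [dv_apply, Fin.sum_univ_two] at hx
  have h01 : M.obj.map (cof Y U (δ 0)).op x = M.obj.map (cof Y U (δ 1)).op x := by
    simpa [sub_eq_zero, ← sub_eq_add_neg] using hx
  have hedge : ∀ {X : ∫ᶜ (part (topAug Y))} (hX : Over' Y U X) (a b : Fin (X.base.unop.len + 1)), a ≤ b →
      M.obj.map (toPb Y hX (SimplexCategory.const ⦋0⦌ _ a)).op x =
        M.obj.map (toPb Y hX (SimplexCategory.const ⦋0⦌ _ b)).op x := fun {X} hX a b hab => by
    let w : ⦋1⦌ ⟶ X.base.unop := SimplexCategory.mkOfLe a b hab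
    have e0 : SimplexCategory.const ⦋0⦌ _ a = δ 1 ≫ w := by
      refine SimplexCategory.Hom.ext _ _ (OrderHom.ext _ _ (funext fun k => ?_))
      fin_cases k; rfl
    have e1 : SimplexCategory.const ⦋0⦌ _ b = δ 0 ≫ w := by
      refine SimplexCategory.Hom.ext _ _ (OrderHom.ext _ _ (funext fun k => ?_))
      fin_cases k; rfl
    rw [e0, e1, ← toPb_cof, ← toPb_cof, op_comp, op_comp, Functor.map_comp, Functor.map_comp,
      ConcreteCategory.comp_apply, ConcreteCategory.comp_apply, h01]
  have hc := isLimitOfPreserves (forget AddCommGrpCat.{u})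
    (Functor.isPointwiseRightKanExtensionRanCounit (incl (topAug Y)).op M.obj (op (mkObj Y (bot DS) U)))
  let s : ((StructuredArrow.proj (op (mkObj Y (bot DS) U)) (incl (topAug Y)).op ⋙ M.obj) ⋙ forget _).sections :=
    ⟨fun a => M.obj.map (toPb Y (over_arrow U a) (vtx _)).op x, fun {a b} m => by
      change M.obj.map m.right (M.obj.map (toPb Y (over_arrow U a) (vtx _)).op x) = _
      rw [← ConcreteCategory.comp_apply, ← Functor.map_comp]
      rw [show (toPb Y (over_arrow U a) (vtx _)).op ≫ m.right =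
          (toPb Y (over_arrow U b) (SimplexCategory.const ⦋0⦌ _ (m.right.unop.base.unop.toOrderHom 0))).op from
        Quiver.Hom.unop_inj (hom_ext_part (Quiver.Hom.unop_inj
          (SimplexCategory.Hom.ext _ _ (OrderHom.ext _ _ (funext fun _ => rfl)))))]
      exact (hedge (over_arrow U b) 0 _ (Fin.zero_le _)).symm⟩
  refine ⟨(Types.isLimitEquivSections hc).symm s, ?_⟩
  rw [iota_eq_leg]
  refine (congrFun (congrArg Subtype.val ((Types.isLimitEquivSections hc).apply_symm_apply s)) (arr U ⦋0⦌)).trans ?_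
  change M.obj.map (toPb Y (over_arrow U (arr U ⦋0⦌)) (vtx _)).op x = x
  rw [show toPb Y (over_arrow U (arr U ⦋0⦌)) (vtx _) = 𝟙 _ from hom_ext_part (Quiver.Hom.unop_inj
    (SimplexCategory.Hom.ext _ _ (OrderHom.ext _ _ (funext fun k => Subsingleton.elim (α := Fin 1) _ _))))]
  exact ConcreteCategory.congr_hom (M.obj.map_id _) x

end Base

end Groth.Agent.FibProper8
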