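import Groth.Agent.Lib.FibProper8.Main
import Groth.Agent.Lib.FibDouble8.Cech
import Groth.Agent.Lib.FibSplit8.Cech

/-!
# Proper separated surjections are of cohomological descent
-/

set_option autoImplicit false
set_option backward.isDefEq.respectTransparency false
set_option backward.isDefEq.respectTransparency.types false
set_option maxHeartbeats 1000000

universe u

open CategoryTheory CategoryTheory.Limits Opposite TopologicalSpace FibDesc
open SimplexCategory
open scoped Simplicial
open Groth.Agent.FibSplit8 Groth.Agent.FibLocal8 Groth.Agent.SheafVan16 Groth.Agent.CohFound Groth.Agent.GodTot16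

noncomputable section

namespace Groth.Agent.FibProper8

variable {X S : TopCat.{u}} (f : X ⟶ S)

local notation "DS" => SimplexCategory

theorem isProperMap_wb (hf : IsProperMap f) (n : DS) : IsProperMap (wb f n) := by
  let ι := Fin (n.len + 1)
  let R : Set (ι → S) := {y | ∀ i, y i = y 0}
  let F : (ι → X) → (ι → S) := fun x i => f (x i)
  have hF : IsProperMap F := IsProperMap.pi_map fun _ => hf
  let P := F ⁻¹' R
  let π : W f n → P := fun w => ⟨fun i => wπ f n i w, fun i =>
    ((ConcreteCategory.congr_hom (WidePullback.π_arrow (fun _ : ι => f) i) w).trans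
      (ConcreteCategory.congr_hom (WidePullback.π_arrow (fun _ : ι => f) 0) w).symm)⟩
  let lft : TopCat.of P ⟶ W f n := WidePullback.lift
    (TopCat.ofHom ⟨fun x => f (x.1 0), f.hom.continuous.comp ((continuous_apply (0 : ι)).comp continuous_subtype_val)⟩)
    (fun i => TopCat.ofHom ⟨fun x => x.1 i, (continuous_apply i).comp continuous_subtype_val⟩)
    (fun i => by ext x; exact x.2 i)
  let e : W f n ≃ₜ P :=
    { toFun := π
      invFun := lft
      left_inv := fun w => by
        let π' : W f n ⟶ TopCat.of P := TopCat.ofHom ⟨π, by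
          refine Continuous.subtype_mk (continuous_pi fun i => ?_) _
          exact (wπ f n i).hom.continuous⟩
        have h : π' ≫ lft = 𝟙 _ := by
          apply w_ext
          · intro i
            rw [Category.assoc, Category.id_comp]
            exact congrArg (π' ≫ ·) (WidePullback.lift_π _ _ _ _ i)
          · rw [Category.assoc, Category.id_comp]
            refine (congrArg (π' ≫ ·) (WidePullback.lift_base _ _ _ _)).trans ?_
            exact WidePullback.π_arrow (fun _ : ι => f) (0 : ι)
        exact ConcreteCategory.congr_hom h w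
      right_inv := fun x => Subtype.ext (funext fun i =>
        ConcreteCategory.congr_hom (show lft ≫ wπ f n i = TopCat.ofHom (⟨fun x => x.1 i,
          (continuous_apply i).comp continuous_subtype_val⟩ : C(P, X)) from WidePullback.lift_π _ _ _ _ i) x)
      continuous_toFun := Continuous.subtype_mk (continuous_pi fun i => (wπ f n i).hom.continuous) _
      continuous_invFun := lft.hom.continuous }
  let s : R ≃ₜ S :=
    { toFun := fun y => y.1 0
      invFun := fun y => ⟨fun _ => y, fun _ => rfl⟩
      left_inv := fun y => Subtype.ext (funext fun i => (y.2 i).symm)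
      right_inv := fun y => rfl
      continuous_toFun := (continuous_apply 0).comp continuous_subtype_val
      continuous_invFun := Continuous.subtype_mk (continuous_pi fun _ => continuous_id) _ }
  have hp : IsProperMap (s ∘ R.restrictPreimage F ∘ e) :=
    s.isProperMap.comp ((hF.restrictPreimage R).comp e.isProperMap)
  have hc : (wb f n : W f n → S) = s ∘ R.restrictPreimage F ∘ e := funext fun w =>
    (ConcreteCategory.congr_hom (WidePullback.π_arrow (fun _ : ι => f) (0 : ι)) w).symm
  rw [hc]
  exact hp

theorem fibSep_wb (hs : FibSep f) (n : DS) : FibSep (wb f n) := fun x x' h hne => by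
  obtain ⟨i, hi⟩ : ∃ i, wπ f n i x ≠ wπ f n i x' := by
    by_contra hcon
    push_neg at hcon
    refine hne (ConcreteCategory.congr_hom (?_ : TopCat.ofHom ⟨fun _ : PUnit.{u + 1} => x, continuous_const⟩ =
      (TopCat.ofHom ⟨fun _ => x', continuous_const⟩ : TopCat.of PUnit.{u + 1} ⟶ W f n)) PUnit.unit)
    apply w_ext
    · intro i; ext; exact hcon i
    · ext; exact h
  have hw : ∀ w, f (wπ f n i w) = wb f n w := fun w =>
    ConcreteCategory.congr_hom (WidePullback.π_arrow (fun _ : Fin (n.len + 1) => f) i) w
  obtain ⟨U, V, hU, hV, hx, hx', hd⟩ := hs _ _ (by rw [hw, hw, h]) hi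
  exact ⟨wπ f n i ⁻¹' U, wπ f n i ⁻¹' V, hU.preimage (wπ f n i).hom.continuous,
    hV.preimage (wπ f n i).hom.continuous, hx, hx', hd.preimage _⟩

/-- The inclusion of a point. -/
abbrev ptMap (s : S) : TopCat.of PUnit.{u + 1} ⟶ S := TopCat.ofHom ⟨fun _ => s, continuous_const⟩

theorem isFibre_cechBC (hf : IsProperMap f) (hs : FibSep f) (s : S) :
    IsFibre (FibDouble8.cechBC f (ptMap s)) (PUnit.unit : PUnit.{u + 1}) where
  sub _ := rfl
  nbhds n := by
    have sq := FibDouble8.isPullback_cechBC f (ptMap s) (idx ⦋n⦌)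
    have hp : IsProperMap (epsMap (cechAug f) (idx ⦋n⦌)) := isProperMap_wb f hf ⦋n⦌
    refine ⟨fun U ⟨V, hV, hU⟩ z => ?_, fun A hA => ?_⟩
    · rw [hU]
      change epsMap (cechAug f) (idx ⦋n⦌) ((FibDouble8.cechBC f (ptMap s)).app (idx ⦋n⦌) z) ∈ V
      rw [show epsMap (cechAug f) (idx ⦋n⦌) ((FibDouble8.cechBC f (ptMap s)).app (idx ⦋n⦌) z) = s from
        ConcreteCategory.congr_hom sq.w z]
      exact hV
    · refine ⟨op ((Opens.map (epsMap (cechAug f) (idx ⦋n⦌))).obj
        ⟨(epsMap (cechAug f) (idx ⦋n⦌) '' (A : Set _)ᶜ)ᶜ, (hp.isClosedMap _ A.isOpen.isClosed_compl).isOpen_compl⟩),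
        ⟨_, ?_, rfl⟩, fun x hx => by_contra fun hxA => hx ⟨x, hxA, rfl⟩⟩
      rintro ⟨x, hx, hxy⟩
      obtain ⟨z, rfl, -⟩ := exists_fibre_point sq x PUnit.unit hxy
      exact hx (hA z)
  sep n := by
    have sq := FibDouble8.isPullback_cechBC f (ptMap s) (idx ⦋n⦌)
    refine ⟨fun a b h => eq_of_maps sq h rfl, fun a b hne => ?_⟩
    refine fibSep_wb f hs ⦋n⦌ _ _ ?_ fun e => hne (eq_of_maps sq e rfl)
    exact (ConcreteCategory.congr_hom sq.w a).trans (ConcreteCategory.congr_hom sq.w b).symm
  cpt n := by
    have sq := FibDouble8.isPullback_cechBC f (ptMap s) (idx ⦋n⦌)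
    have hp : IsProperMap (epsMap (cechAug f) (idx ⦋n⦌)) := isProperMap_wb f hf ⦋n⦌
    have h := (isProperMap_snd sq hp).isCompact_preimage (isCompact_univ (X := PUnit.{u + 1}))
    exact ⟨by rwa [Set.preimage_univ] at h⟩

theorem isCohDescentMap_of_proper (hf : IsProperMap f) (hs : FibSep f) (hsurj : Function.Surjective f) :
    IsCohDescentMap f := by
  letI := HasDerivedCategory.standard (BaseSh (topAug (cechAug f)) (topAugTop (cechAug f)) AddCommGrpCat.{u})
  letI := HasDerivedCategory.standard (DSh (topAug (cechAug f)) (topAugTop (cechAug f)) AddCommGrpCat.{u})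
  refine ⟨eps_continuous _, inferInstance, incl_continuous _, incl_cocontinuous _, fun P => inferInstance,
    preservesFiniteLimits_pull, fun K M => ?_⟩
  obtain ⟨a, ha⟩ := M.property
  haveI : DerivedCategory.IsGE M.obj a := ha
  obtain ⟨L, hL, ⟨eL⟩⟩ := DerivedCategory.exists_iso_Q_obj_of_isGE M.obj a
  let P := ((pull (topAug (cechAug f)) (topAugTop (cechAug f)) AddCommGrpCat.{u}).mapHomologicalComplex
    (ComplexShape.up ℤ)).obj L
  haveI : CochainComplex.IsStrictlyGE P a := CochainComplex.isStrictlyGE_iff _ _ |>.2 fun i hi =>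
    (show IsZero ((pull (topAug (cechAug f)) (topAugTop (cechAug f)) AddCommGrpCat.{u}).obj (L.X i)) from
      (pull (topAug (cechAug f)) (topAugTop (cechAug f)) AddCommGrpCat.{u}).map_isZero
        (CochainComplex.isZero_of_isStrictlyGE L a i hi))
  obtain ⟨J, q, hq, hJ, hge⟩ := CochainComplex.Plus.modelCategoryQuillen.exists_quasiIso_injective P a
  haveI : J.IsKInjective := CochainComplex.isKInjective_of_injective J a
  let η := adjunct (FibDesc.adj (topAug (cechAug f)) (topAugTop (cechAug f)) AddCommGrpCat.{u}) q
  have hη : _root_.QuasiIso η := by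
    refine ⟨fun i => ?_⟩
    rw [quasiIsoAt_iff_isIso_homologyMap]
    have hst : ∀ s : S, IsIso ((stk s).map (HomologicalComplex.homologyMap η i)) := fun s => by
      obtain ⟨x, hx⟩ := hsurj s
      have hd : IsCohDescentTop (cechAug (pullback.snd f (ptMap s))) := isCohDescentMap_of_section _
        (pullback.lift (TopCat.ofHom ⟨fun _ => x, continuous_const⟩) (𝟙 _) (by ext; exact hx)) (pullback.lift_snd _ _ _)
      exact (FibDouble8.quasiIso_map_iff _ _).1 (quasiIso_stk_adjunct (isFibre_cechBC f hf hs s) hd a q hJ) i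
    haveI : Mono (HomologicalComplex.homologyMap η i) := mono_of_st _ fun s b hb => by
      haveI := hst s
      exact (ConcreteCategory.bijective_of_isIso ((stk s).map (HomologicalComplex.homologyMap η i))).1
        (hb.trans (map_zero _).symm)
    haveI : Epi (HomologicalComplex.homologyMap η i) := epi_of_st _ fun s => by
      haveI := hst s
      exact (ConcreteCategory.bijective_of_isIso ((stk s).map (HomologicalComplex.homologyMap η i))).2
    exact isIso_of_mono_of_epi _
  have h := bijective_map_of_quasiIso (FibDesc.adj (topAug (cechAug f)) (topAugTop (cechAug f)) AddCommGrpCat.{u}) q hη K.obj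
  refine (congrArg Function.Bijective (funext fun g => ?_)).mp
    ((((pull (topAug (cechAug f)) (topAugTop (cechAug f)) AddCommGrpCat.{u}).mapDerivedCategory.mapIso
      eL.symm).homToEquiv).bijective.comp (h.comp eL.homToEquiv.bijective))
  simp [← Functor.map_comp]

end Groth.Agent.FibProper8
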