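import Groth.Agent.Lib.FibProper8.Level
import Mathlib.Algebra.Homology.ShortComplex.Ab
import Mathlib.Algebra.Homology.HomotopyCategory.MappingCone
import Mathlib.Algebra.Homology.QuasiIso
import Mathlib.Topology.Sheaves.Stalks
import Groth.Agent.Lib.RFPlus.Adapted

/-!
# Stalks of the direct image to the base through the cosimplicial resolution
-/

set_option autoImplicit false
set_option backward.isDefEq.respectTransparency false
set_option backward.isDefEq.respectTransparency.types false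
set_option maxHeartbeats 1000000

universe u

open CategoryTheory CategoryTheory.Limits Opposite TopologicalSpace Pseudofunctor.CoGrothendieck FibDesc
open SimplexCategory
open scoped Simplicial
open Groth.Agent.FibSplit8 Groth.Agent.FibLocal8 Groth.Agent.RFPlus

noncomputable section

namespace Groth.Agent.FibProper8

variable (Y : (WithInitial SimplexCategory)ᵒᵖ ⥤ TopCat.{u})

local notation "DS" => SimplexCategory
local notation "cS" => ComplexShape.up ℤ

/-- Preimages as a functor. -/
def levF (n : ℕ) : Opens (Y.obj (bot DS)) ⥤ ∫ᶜ (part (topAug Y)) :=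
  Opens.map (epsMap Y (idx ⦋n⦌)) ⋙ ι (part (topAug Y)) (op ⦋n⦌)

/-- A row, as presheaves on the base. -/
def row (n : ℕ) : PSh Y ⥤ ((Opens (Y.obj (bot DS)))ᵒᵖ ⥤ AddCommGrpCat.{u}) :=
  sheafToPresheaf _ _ ⋙ (Functor.whiskeringLeft _ _ _).obj (levF Y n).op

instance additive_row (n : ℕ) : (row Y n).Additive where
  map_add := rfl

theorem levF_map_cof (n : ℕ) {U V : Opens (Y.obj (bot DS))} (g : U ⟶ V) (i : Fin (n + 2)) :
    (levF Y (n + 1)).map g ≫ cof Y V (δ i) = cof Y U (δ i) ≫ (levF Y n).map g :=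
  hom_ext_part ((Category.id_comp _).trans (Category.comp_id _).symm)

/-- The differential between rows. -/
def drow (n : ℕ) : row Y n ⟶ row Y (n + 1) where
  app M :=
    { app := fun U => dv M U.unop n
      naturality := fun U V g => by
        refine AddCommGrpCat.hom_ext (AddMonoidHom.ext fun x => ?_)
        change dv M V.unop n (M.obj.map ((levF Y n).map g.unop).op x) =
          M.obj.map ((levF Y (n + 1)).map g.unop).op (dv M U.unop n x)
        rw [dv_apply, dv_apply, map_sum]
        refine Finset.sum_congr rfl fun i _ => ?_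
        rw [map_zsmul]
        refine congrArg (_ • ·) ?_
        refine (ConcreteCategory.congr_hom (M.obj.map_comp _ _) x).symm.trans ?_
        refine Eq.trans ?_ (ConcreteCategory.congr_hom (M.obj.map_comp _ _) x)
        exact congrArg (fun t => M.obj.map t.op x) (levF_map_cof Y n g.unop i) }
  naturality M N φ := by
    ext U x
    change dv N U.unop n (φ.hom.app _ x) = φ.hom.app _ (dv M U.unop n x)
    rw [dv_apply, dv_apply, map_sum]
    refine Finset.sum_congr rfl fun i _ => ?_
    rw [map_zsmul, ← NatTrans.naturality_apply]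

/-- The augmentation of the rows. -/
def irow : push (topAug Y) (topAugTop Y) AddCommGrpCat.{u} ⋙ sheafToPresheaf _ _ ⟶ row Y 0 where
  app M :=
    { app := fun U => iota U.unop M
      naturality := fun U V g => by
        change ((ccR Y).obj M).obj.map ((ι (topAug Y) (bot DS)).map g.unop).op ≫ ((ccR Y).obj M).obj.map _ ≫ _ =
          (((ccR Y).obj M).obj.map _ ≫ _) ≫ M.obj.map ((levF Y 0).map g.unop).op
        refine Eq.trans ?_ ((congrArg (_ ≫ ·) (((adjR Y).counit.app M).hom.naturality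
          ((levF Y 0).map g.unop).op)).trans (Category.assoc _ _ _).symm)
        refine (Category.assoc _ _ _).symm.trans (Eq.trans ?_ (Category.assoc _ _ _))
        refine congrArg (· ≫ _) ?_
        refine (((ccR Y).obj M).obj.map_comp _ _).symm.trans (Eq.trans ?_ (((ccR Y).obj M).obj.map_comp _ _))
        exact congrArg ((ccR Y).obj M).obj.map (Quiver.Hom.unop_inj (hom_ext Y (botTerminal.hom_ext _ _))) }
  naturality M N φ := by
    ext U : 2
    change ((ccR Y).map φ).hom.app (op (mkObj Y (bot DS) U.unop)) ≫ ((ccR Y).obj N).obj.map _ ≫ _ =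
      (((ccR Y).obj M).obj.map _ ≫ _) ≫ φ.hom.app _
    rw [← Category.assoc, ← ((ccR Y).map φ).hom.naturality, Category.assoc, Category.assoc]
    exact congrArg (_ ≫ ·) (congrArg (fun η => η.hom.app (op (pb Y U.unop ⦋0⦌))) ((adjR Y).counit.naturality φ))

variable (s : Y.obj (bot DS))

/-- The stalk functor at the point. -/
abbrev stkP : ((Opens (Y.obj (bot DS)))ᵒᵖ ⥤ AddCommGrpCat.{u}) ⥤ AddCommGrpCat.{u} :=
  TopCat.Presheaf.stalkFunctor AddCommGrpCat.{u} s

instance additive_stkP : (stkP Y s).Additive where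
  map_add {P Q φ ψ} := by
    refine AddCommGrpCat.hom_ext (AddMonoidHom.ext fun a => ?_)
    obtain ⟨U, hU, x, rfl⟩ := TopCat.Presheaf.exists_germ_eq P a
    change (stkP Y s).map (φ + ψ) _ = (stkP Y s).map φ _ + (stkP Y s).map ψ _
    erw [TopCat.Presheaf.stalkFunctor_map_germ_apply, TopCat.Presheaf.stalkFunctor_map_germ_apply,
      TopCat.Presheaf.stalkFunctor_map_germ_apply]
    exact map_add _ _ _

/-- The stalk of a row. -/
def Tn (n : ℕ) : PSh Y ⥤ AddCommGrpCat.{u} := row Y n ⋙ stkP Y s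

/-- The stalk of the direct image. -/
def Tp : PSh Y ⥤ AddCommGrpCat.{u} :=
  push (topAug Y) (topAugTop Y) AddCommGrpCat.{u} ⋙ sheafToPresheaf _ _ ⋙ stkP Y s

/-- The differential on stalks. -/
def dT (n : ℕ) : Tn Y s n ⟶ Tn Y s (n + 1) := Functor.whiskerRight (drow Y n) (stkP Y s)

/-- The augmentation on stalks. -/
def iT : Tp Y s ⟶ Tn Y s 0 := Functor.whiskerRight (irow Y) (stkP Y s)

variable {Y s} (M : PSh Y)

theorem exists_germ_Tn {n : ℕ} (a : (Tn Y s n).obj M) :
    ∃ (U : Opens (Y.obj (bot DS))) (hU : s ∈ U) (x : val M U n), TopCat.Presheaf.germ ((row Y n).obj M) U s hU x = a :=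
  TopCat.Presheaf.exists_germ_eq ((row Y n).obj M) a

theorem dT_germ {n : ℕ} {U : Opens (Y.obj (bot DS))} (hU : s ∈ U) (x : val M U n) :
    (dT Y s n).app M (TopCat.Presheaf.germ ((row Y n).obj M) U s hU x) =
      TopCat.Presheaf.germ ((row Y (n + 1)).obj M) U s hU (dv M U n x) :=
  TopCat.Presheaf.stalkFunctor_map_germ_apply U s hU ((drow Y n).app M) x

theorem iT_germ {U : Opens (Y.obj (bot DS))} (hU : s ∈ U)
    (y : ((push (topAug Y) (topAugTop Y) AddCommGrpCat.{u}).obj M).obj.obj (op U)) :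
    (iT Y s).app M (TopCat.Presheaf.germ ((push (topAug Y) (topAugTop Y) AddCommGrpCat.{u}).obj M).obj U s hU y) =
      TopCat.Presheaf.germ ((row Y 0).obj M) U s hU (iota U M y) :=
  TopCat.Presheaf.stalkFunctor_map_germ_apply U s hU ((irow Y).app M) y

theorem dT_dT (n : ℕ) (a : (Tn Y s n).obj M) : (dT Y s (n + 1)).app M ((dT Y s n).app M a) = 0 := by
  obtain ⟨U, hU, x, rfl⟩ := exists_germ_Tn M a
  rw [dT_germ, dT_germ, dv_dv, map_zero]

theorem dT_iT (a : (Tp Y s).obj M) : (dT Y s 0).app M ((iT Y s).app M a) = 0 := by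
  obtain ⟨U, hU, y, rfl⟩ := TopCat.Presheaf.exists_germ_eq ((push (topAug Y) (topAugTop Y) AddCommGrpCat.{u}).obj M).obj a
  rw [iT_germ, dT_germ, dv_iota, map_zero]

theorem exists_germ_zero {P : TopCat.Presheaf AddCommGrpCat.{u} (Y.obj (bot DS))} {U : Opens (Y.obj (bot DS))}
    (hU : s ∈ U) (x : P.obj (op U)) (hx : TopCat.Presheaf.germ P U s hU x = 0) :
    ∃ (V : Opens (Y.obj (bot DS))) (_ : s ∈ V) (h : V ⟶ U), P.map h.op x = 0 := by
  obtain ⟨V, hV, i₁, i₂, e⟩ := TopCat.Presheaf.germ_eq P s hU hU x 0 (hx.trans (map_zero _).symm)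
  exact ⟨V, hV, i₁, e.trans (map_zero _)⟩

theorem iT_injective : Function.Injective ((iT Y s).app M) := by
  refine (injective_iff_map_eq_zero ((iT Y s).app M).hom).2 fun a ha => ?_
  obtain ⟨U, hU, y, rfl⟩ := TopCat.Presheaf.exists_germ_eq ((push (topAug Y) (topAugTop Y) AddCommGrpCat.{u}).obj M).obj a
  obtain ⟨V, hV, h, e⟩ := exists_germ_zero hU _ ((iT_germ M hU y).symm.trans ha)
  have e' : iota V M (((push (topAug Y) (topAugTop Y) AddCommGrpCat.{u}).obj M).obj.map h.op y) = 0 :=
    (NatTrans.naturality_apply ((irow Y).app M) h.op y).trans e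
  refine (TopCat.Presheaf.germ_res_apply _ h s hV y).symm.trans ?_
  rw [iota_injective V M (e'.trans (map_zero _).symm)]
  exact map_zero _

theorem exists_iT (a : (Tn Y s 0).obj M) (ha : (dT Y s 0).app M a = 0) : ∃ b, (iT Y s).app M b = a := by
  obtain ⟨U, hU, x, rfl⟩ := exists_germ_Tn M a
  obtain ⟨V, hV, h, e⟩ := exists_germ_zero hU _ ((dT_germ M hU x).symm.trans ha)
  obtain ⟨y, hy⟩ := exists_iota V M (((row Y 0).obj M).map h.op x)
    ((NatTrans.naturality_apply ((drow Y 0).app M) h.op x).trans e)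
  exact ⟨_, (iT_germ M hV y).trans ((congrArg _ hy).trans (TopCat.Presheaf.germ_res_apply ((row Y _).obj M) h s hV x))⟩

theorem exists_dT [Injective M] {n : ℕ} (a : (Tn Y s (n + 1)).obj M) (ha : (dT Y s (n + 1)).app M a = 0) :
    ∃ b, (dT Y s n).app M b = a := by
  obtain ⟨U, hU, x, rfl⟩ := exists_germ_Tn M a
  obtain ⟨V, hV, h, e⟩ := exists_germ_zero hU _ ((dT_germ M hU x).symm.trans ha)
  obtain ⟨y, hy⟩ := exists_dv M (U := V) n (((row Y (n + 1)).obj M).map h.op x)
    ((NatTrans.naturality_apply ((drow Y (n + 1)).app M) h.op x).trans e)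
  exact ⟨_, (dT_germ M hV y).trans ((congrArg _ hy).trans (TopCat.Presheaf.germ_res_apply ((row Y _).obj M) h s hV x))⟩

/-- The stalk of the direct image is the kernel of the first differential. -/
def isKernel_iT : IsLimit (KernelFork.ofι ((iT Y s).app M)
    (show (iT Y s).app M ≫ (dT Y s 0).app M = 0 from AddCommGrpCat.hom_ext (AddMonoidHom.ext fun a => dT_iT M a))) := by
  haveI : Mono ((iT Y s).app M) := (AddCommGrpCat.mono_iff_injective _).2 (iT_injective M)
  let S : ShortComplex AddCommGrpCat.{u} := ShortComplex.mk ((iT Y s).app M) ((dT Y s 0).app M)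
    (AddCommGrpCat.hom_ext (AddMonoidHom.ext fun a => dT_iT M a))
  haveI : Mono S.f := inferInstanceAs (Mono ((iT Y s).app M))
  exact ((ShortComplex.ab_exact_iff S).2 fun a ha => exists_iT M a ha).fIsKernel

instance additive_Tn (n : ℕ) : (Tn Y s n).Additive := inferInstanceAs ((row Y n ⋙ stkP Y s).Additive)

instance additive_push' : (push (topAug Y) (topAugTop Y) AddCommGrpCat.{u}).Additive :=
  haveI : PreservesLimitsOfSize.{0, 0} (push (topAug Y) (topAugTop Y) AddCommGrpCat.{u}) :=
    preservesLimits_push _ _ _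
  haveI := preservesBinaryBiproducts_of_preservesBinaryProducts (push (topAug Y) (topAugTop Y) AddCommGrpCat.{u})
  Functor.additive_of_preservesBinaryBiproducts _

instance additive_Tp : (Tp Y s).Additive where
  map_add {M N φ ψ} :=
    (congrArg (fun t : (push (topAug Y) (topAugTop Y) AddCommGrpCat.{u}).obj M ⟶
        (push (topAug Y) (topAugTop Y) AddCommGrpCat.{u}).obj N => (stkP Y s).map t.hom)
      ((push (topAug Y) (topAugTop Y) AddCommGrpCat.{u}).map_add (f := φ) (g := ψ))).trans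
      ((stkP Y s).map_add)

theorem nat_dv {C : CochainComplex (PSh Y) ℤ} {n : ℕ} (p q : ℤ) (a : (Tn Y s n).obj (C.X p)) :
    (dT Y s n).app (C.X q) ((Tn Y s n).map (C.d p q) a) = (Tn Y s (n + 1)).map (C.d p q) ((dT Y s n).app (C.X p) a) :=
  (NatTrans.naturality_apply (dT Y s n) (C.d p q) a)

theorem acyclic_Tp {C : CochainComplex (PSh Y) ℤ} (a : ℤ) [C.IsStrictlyGE a] (hI : ∀ p, Injective (C.X p))
    (hn : ∀ n, (((Tn Y s n).mapHomologicalComplex cS).obj C).Acyclic) :
    (((Tp Y s).mapHomologicalComplex cS).obj C).Acyclic := by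
  have hex : ∀ (n : ℕ) (p : ℤ) (z : (Tn Y s n).obj (C.X p)), (Tn Y s n).map (C.d p (p + 1)) z = 0 →
      ∃ w, (Tn Y s n).map (C.d (p - 1) p) w = z := fun n p z hz =>
    (ShortComplex.ab_exact_iff _).1 (((((Tn Y s n).mapHomologicalComplex cS).obj C).exactAt_iff' (p - 1) p (p + 1)
      (by simp) (by simp)).1 (hn n p)) z hz
  have key : ∀ (k n : ℕ) (p : ℤ), p < a + k → ∀ z : (Tn Y s n).obj (C.X p),
      (Tn Y s n).map (C.d p (p + 1)) z = 0 → (dT Y s n).app (C.X p) z = 0 →
      ∃ y, (dT Y s n).app (C.X (p - 1)) y = 0 ∧ (Tn Y s n).map (C.d (p - 1) p) y = z := by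
    intro k
    induction k with
    | zero =>
      intro n p hp z _ _
      have h0 := ((Tn Y s n).map_isZero (C.isZero_of_isStrictlyGE a p (by simpa using hp))).eq_of_src
        (𝟙 ((Tn Y s n).obj (C.X p))) 0
      exact ⟨0, map_zero _, (map_zero _).trans (ConcreteCategory.congr_hom h0 z).symm⟩
    | succ k ih =>
      intro n p hp z hv hh
      obtain ⟨w, rfl⟩ := hex n p z hv
      rw [nat_dv] at hh
      have h2 : (Tn Y s (n + 1)).map (C.d (p - 1) (p - 1 + 1)) ((dT Y s n).app _ w) = 0 := by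
        rw [show p - 1 + 1 = p by omega]; exact hh
      obtain ⟨y', hy'h, hy'⟩ := ih (n + 1) (p - 1) (by push_cast at hp ⊢; omega) ((dT Y s n).app _ w) h2 (dT_dT _ n w)
      haveI := hI (p - 1 - 1)
      obtain ⟨u, hu⟩ := exists_dT _ y' hy'h
      refine ⟨w - (Tn Y s n).map (C.d (p - 1 - 1) (p - 1)) u, ?_, ?_⟩
      · rw [map_sub, nat_dv, hu, hy', sub_self]
      · rw [map_sub, ← ConcreteCategory.comp_apply, ← Functor.map_comp, C.d_comp_d, Functor.map_zero]
        exact sub_zero _
  intro p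
  rw [HomologicalComplex.exactAt_iff' _ (p - 1) p (p + 1) (by simp) (by simp), ShortComplex.ab_exact_iff]
  intro (z : (Tp Y s).obj (C.X p)) (hz : (Tp Y s).map (C.d p (p + 1)) z = 0)
  have h1 : (Tn Y s 0).map (C.d p (p + 1)) ((iT Y s).app _ z) = 0 := by
    rw [← NatTrans.naturality_apply, hz, map_zero]
  obtain ⟨y, hy, hyz⟩ := key (p + 1 - a).toNat 0 p (by omega) _ h1 (dT_iT _ z)
  obtain ⟨b, rfl⟩ := exists_iT _ y hy
  exact ⟨b, iT_injective _ ((NatTrans.naturality_apply (iT Y s) (C.d (p - 1) p) b).trans hyz)⟩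

theorem quasiIso_Tp {K L : CochainComplex (PSh Y) ℤ} (θ : K ⟶ L) (a : ℤ) [K.IsStrictlyGE a] [L.IsStrictlyGE a]
    (hK : ∀ p, Injective (K.X p)) (hL : ∀ p, Injective (L.X p))
    (hn : ∀ n, _root_.QuasiIso (((Tn Y s n).mapHomologicalComplex cS).map θ)) :
    _root_.QuasiIso (((Tp Y s).mapHomologicalComplex cS).map θ) := by
  rw [quasiIso_iff_acyclic_cone]
  have hX : ∀ p, Injective ((CochainComplex.mappingCone θ).X p) := fun p => by
    haveI := hK (p + 1)
    haveI := hL p
    exact Injective.of_iso (HomologicalComplex.homotopyCofiber.XIsoBiprod θ p (p + 1) rfl).symm inferInstance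
  haveI : CochainComplex.IsStrictlyGE (CochainComplex.mappingCone θ) (a - 1) :=
    CochainComplex.isStrictlyGE_iff _ _ |>.2 fun p hp => IsZero.of_iso ((biprod_isZero_iff _ _).2
      ⟨K.isZero_of_isStrictlyGE a (p + 1) (by omega), L.isZero_of_isStrictlyGE a p (by omega)⟩)
      (HomologicalComplex.homotopyCofiber.XIsoBiprod θ p (p + 1) rfl)
  have h := acyclic_Tp (s := s) (C := CochainComplex.mappingCone θ) (a - 1) hX fun n p =>
    (((quasiIso_iff_acyclic_cone _).1 (hn n)) p).of_iso (CochainComplex.mappingCone.mapHomologicalComplexIso θ (Tn Y s n)).symm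
  exact fun p => (h p).of_iso (CochainComplex.mappingCone.mapHomologicalComplexIso θ (Tp Y s))

end Groth.Agent.FibProper8
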